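import Mathlib
import Cfsg.Agent.S0215
import Cfsg.Agent.Lib.Char.Integral

/-!
Groups in which the cyclic subgroups of prime power order are TI: the square roots of involutions.
-/

set_option autoImplicit false
set_option linter.unusedSectionVars false
set_option linter.style.haveILetI false

universe u

namespace Cfsg.Agent.Invol.CycTI

open Subgroup

variable {G : Type u} [Group G] [Finite G]

/-- An element centralising a nontrivial power of `x` normalises `⟨x⟩`, for `x` of prime power order. -/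
def Ti (G : Type u) [Group G] : Prop :=
  ∀ (x g : G) (p k n : ℕ), p.Prime → orderOf x = p ^ k → x ^ n ≠ 1 → Commute g (x ^ n) → g * x * g⁻¹ ∈ zpowers x

/-- The hypothesis of the classification gives `Ti`. -/
theorem ti_of_hyp (h : ∀ H : Subgroup G, IsCyclic H → IsPrimePow (Nat.card H) →
    ∀ g : G, H.map (MulAut.conj g).toMonoidHom = H ∨ H.map (MulAut.conj g).toMonoidHom ⊓ H = ⊥) : Ti G := by
  intro x g p k n hp hx hn hg
  have hk : k ≠ 0 := by
    intro hk
    rw [hk, pow_zero, orderOf_eq_one_iff] at hx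
    exact hn (by rw [hx, one_pow])
  rcases h (zpowers x) inferInstance (by
    rw [Nat.card_zpowers, hx]; exact hp.prime.isPrimePow.pow hk) g with e | e
  · exact e.le ⟨x, mem_zpowers x, rfl⟩
  · refine absurd ?_ hn
    rw [← mem_bot (G := G), ← e]
    refine ⟨⟨x ^ n, pow_mem (mem_zpowers x) n, ?_⟩, pow_mem (mem_zpowers x) n⟩
    show g * x ^ n * g⁻¹ = x ^ n
    rw [hg.eq, mul_inv_cancel_right]

/-- `x` is a square root of the involution `z`. -/
structure Sq (x z : G) : Prop where
  sq : x * x = z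
  two : orderOf z = 2

omit [Finite G] in
theorem ne_one_of_two {z : G} (h : orderOf z = 2) : z ≠ 1 := fun e => by simp [e] at h

omit [Finite G] in
theorem mul_self {z : G} (h : orderOf z = 2) : z * z = 1 := by rw [← pow_two, ← h, pow_orderOf_eq_one]

omit [Finite G] in
theorem inv_eq {z : G} (h : orderOf z = 2) : z⁻¹ = z := inv_eq_of_mul_eq_one_right (mul_self h)

namespace Sq

variable {x z : G} (h : Sq x z)
include h

omit [Finite G] in
theorem pow_two' : x ^ 2 = z := by rw [pow_two, h.sq]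

omit [Finite G] in
theorem ord : orderOf x = 2 ^ 2 :=
  orderOf_eq_prime_pow (p := 2) (n := 1) (by simpa [h.pow_two'] using ne_one_of_two h.two)
    (by rw [show (2 : ℕ) ^ (1 + 1) = 2 * 2 from rfl, pow_mul, h.pow_two', pow_two, mul_self h.two])

omit [Finite G] in
theorem ne_one : x ≠ 1 := fun e => ne_one_of_two h.two (by rw [← h.sq, e, one_mul])

omit [Finite G] in
theorem inv_ne : x⁻¹ ≠ x := fun e => ne_one_of_two h.two (by
  rw [← h.sq]
  nth_rewrite 1 [← e]
  exact inv_mul_cancel x)

omit [Finite G] in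
theorem comm_self : Commute x z := by rw [← h.sq]; exact (Commute.refl x).mul_right (Commute.refl x)

omit [Finite G] in
theorem inv : Sq x⁻¹ z := ⟨by rw [← _root_.mul_inv_rev, h.sq, inv_eq h.two], h.two⟩

omit [Finite G] in
theorem conj (g : G) : Sq (g * x * g⁻¹) (g * z * g⁻¹) :=
  ⟨by rw [← h.sq]; group, by rw [show g * z * g⁻¹ = MulAut.conj g z from rfl, MulEquiv.orderOf_eq, h.two]⟩

omit [Finite G] in
/-- The elements of `⟨x⟩` with square `z`. -/
theorem eq_or_inv {y : G} (hy : y ∈ zpowers x) (hyz : y * y = z) : y = x ∨ y = x⁻¹ := by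
  obtain ⟨i, rfl⟩ := mem_zpowers_iff.1 hy
  rw [← zpow_mod_orderOf, h.ord] at hyz ⊢
  rcases (by norm_num; omega : i % ((2 ^ 2 : ℕ) : ℤ) = 0 ∨ i % ((2 ^ 2 : ℕ) : ℤ) = 1 ∨
    i % ((2 ^ 2 : ℕ) : ℤ) = 2 ∨ i % ((2 ^ 2 : ℕ) : ℤ) = 3) with e | e | e | e <;> rw [e] at hyz ⊢
  · rw [zpow_zero, one_mul] at hyz
    exact absurd hyz.symm (ne_one_of_two h.two)
  · exact Or.inl (zpow_one x)
  · rw [zpow_two, h.sq, mul_self h.two] at hyz
    exact absurd hyz.symm (ne_one_of_two h.two)
  · refine Or.inr (eq_inv_of_mul_eq_one_left ?_)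
    rw [show (3 : ℤ) = ((3 : ℕ) : ℤ) from rfl, zpow_natCast, ← pow_succ, show 3 + 1 = 2 * 2 from rfl, pow_mul,
      h.pow_two', pow_two, mul_self h.two]

omit [Finite G] in
/-- Commuting roots of different involutions multiply to a root of the product. -/
theorem mul {x' z' : G} (h' : Sq x' z') (hc : Commute x x') (hne : z ≠ z') : Sq (x * x') (z * z') := by
  have hzz : Commute z z' := by rw [← h.sq, ← h'.sq]; exact (hc.mul_left hc).mul_right (hc.mul_left hc)
  refine ⟨?_, orderOf_eq_prime ?_ fun e => hne ?_⟩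
  · rw [← h.sq, ← h'.sq]
    exact hc.symm.mul_mul_mul_comm x x'
  · rw [pow_two, hzz.symm.mul_mul_mul_comm z z', mul_self h.two, mul_self h'.two, mul_one]
  · rw [eq_inv_of_mul_eq_one_left e, inv_eq h'.two]

end Sq

variable (hti : Ti G)
include hti

omit [Finite G] in
/-- The centraliser of `z` centralises or inverts each root. -/
theorem conj_root {x z g : G} (h : Sq x z) (hg : Commute g z) : g * x * g⁻¹ = x ∨ g * x * g⁻¹ = x⁻¹ :=
  h.eq_or_inv (hti x g 2 2 2 Nat.prime_two h.ord (h.pow_two' ▸ ne_one_of_two h.two) (h.pow_two' ▸ hg))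
    (by rw [show g * x * g⁻¹ * (g * x * g⁻¹) = g * (x * x) * g⁻¹ by group, h.sq, hg.eq, mul_inv_cancel_right])

omit [Finite G] in
theorem symm_commute {x z x' z' : G} (h : Sq x z) (h' : Sq x' z') (hc : Commute x z') : Commute z x' := by
  have key : x * (x * x' * x⁻¹) * x⁻¹ = x' := by
    rcases conj_root hti h' hc with e | e
    · rw [e, e]
    · rw [e, ← conj_inv, e, inv_inv]
  refine mul_inv_eq_iff_eq_mul.1 ?_
  rw [← h.sq]
  calc x * x * x' * (x * x)⁻¹ = x * (x * x' * x⁻¹) * x⁻¹ := by group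
    _ = x' := key

omit [Finite G] in
/-- Roots of different involutions commute when one centralises the other involution. -/
theorem commute_roots {x z x' z' : G} (h : Sq x z) (h' : Sq x' z') (hne : z ≠ z') (hc : Commute x z') :
    Commute x x' := by
  rcases conj_root hti h' hc with e1 | e1
  · exact mul_inv_eq_iff_eq_mul.1 e1
  rcases conj_root hti h (symm_commute hti h h' hc).symm with e2 | e2
  · exact (mul_inv_eq_iff_eq_mul.1 e2 : Commute x' x).symm
  exfalso
  refine hne ?_
  calc z = x * (x' * x * x'⁻¹)⁻¹ := by rw [e2, inv_inv, h.sq]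
    _ = x * x' * x⁻¹ * x'⁻¹ := by group
    _ = z' := by rw [e1, ← _root_.mul_inv_rev, h'.sq, inv_eq h'.two]

omit hti

/-- An involution of a non-abelian simple group commutes with another of its conjugates. -/
theorem exists_conj_commute [IsSimpleGroup G] (hna : ¬ IsMulCommutative G) {z : G} (hz : orderOf z = 2) :
    ∃ g : G, g * z * g⁻¹ ≠ z ∧ Commute (g * z * g⁻¹) z := by
  haveI := Fact.mk Nat.prime_two
  by_contra hc
  push Not at hc
  obtain ⟨P, hP⟩ := (IsPGroup.of_card (n := 1) (by rw [Nat.card_zpowers, hz, pow_one]) :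
    IsPGroup 2 (zpowers z)).exists_le_sylow
  have hzP : z ∈ (P : Subgroup G) := hP (mem_zpowers z)
  obtain ⟨N, hN, hodd, hNc⟩ := Cfsg.Agent.S0215.result P z hz hzP fun g hg => by
    by_contra hne
    set u := g * z * g⁻¹ with hu
    have huo : orderOf u = 2 := by rw [hu, show g * z * g⁻¹ = MulAut.conj g z from rfl, MulEquiv.orderOf_eq, hz]
    have huu := mul_self huo
    have hzz := mul_self hz
    set y := z * u with hy
    have hinv : z * y * z⁻¹ = y⁻¹ := by
      rw [hy, _root_.mul_inv_rev, inv_eq hz, inv_eq huo, ← mul_assoc z z u, hzz, one_mul]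
    obtain ⟨j, hj⟩ := IsPGroup.iff_orderOf.1 P.isPGroup' ⟨y, mul_mem hzP hg⟩
    rw [Subgroup.orderOf_mk] at hj
    rcases (by omega : j = 0 ∨ j = 1 ∨ 2 ≤ j) with rfl | rfl | hj2
    · rw [pow_zero, orderOf_eq_one_iff, hy] at hj
      exact hne (eq_inv_of_mul_eq_one_right hj |>.trans (inv_eq hz))
    · refine hc g hne ?_
      have h1 : y⁻¹ = y := inv_eq (by rw [hj, pow_one])
      rw [hy, _root_.mul_inv_rev, inv_eq hz, inv_eq huo] at h1
      exact h1
    · set c := y ^ 2 ^ (j - 2) with hcdef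
      have hzc : z * c * z⁻¹ = c⁻¹ := by rw [hcdef, ← conj_pow, hinv, inv_pow]
      have hc4 : (c * c) * (c * c) = 1 := by
        rw [hcdef, ← pow_add, ← pow_add, show 2 ^ (j - 2) + 2 ^ (j - 2) + (2 ^ (j - 2) + 2 ^ (j - 2)) = 2 ^ j by
          rw [show j = (j - 2) + 2 by omega, pow_add, Nat.add_sub_cancel]; ring, ← hj, pow_orderOf_eq_one]
      have hc2 : c * c ≠ 1 := by
        rw [hcdef, ← pow_add, show 2 ^ (j - 2) + 2 ^ (j - 2) = 2 ^ (j - 1) by
          rw [show j - 1 = (j - 2) + 1 by omega, pow_succ]; ring]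
        refine pow_ne_one_of_lt_orderOf (by positivity) ?_
        rw [hj]
        exact Nat.pow_lt_pow_right one_lt_two (by omega)
      have hval : c * z * c⁻¹ = c * c * z := by
        calc c * z * c⁻¹ = c * (z * c⁻¹ * z⁻¹) * z := by group
          _ = c * c * z := by rw [← conj_inv, hzc, inv_inv]
      refine hc c ?_ ?_
      · rw [hval]; exact fun e => hc2 (mul_eq_right.1 e)
      · rw [hval]
        have h1 : z * (c * c) * z⁻¹ = c * c := by
          rw [← conj_mul, hzc, ← _root_.mul_inv_rev, inv_eq_of_mul_eq_one_right hc4]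
        show c * c * z * z = z * (c * c * z)
        rw [← mul_assoc, mul_inv_eq_iff_eq_mul.1 h1, mul_assoc]
  rcases hN.eq_bot_or_eq_top with h | h
  · refine hna ⟨⟨Char.comm_of_central_ne_one (ne_one_of_two hz) (mem_center_iff.2 fun g => ?_)⟩⟩
    have h1 := mem_bot.1 (h ▸ hNc g)
    exact (mul_inv_eq_iff_eq_mul.1 (mul_inv_eq_one.1 h1)).symm
  · rw [h, card_top, Nat.odd_iff] at hodd
    have : 2 ∣ Nat.card G := hz ▸ orderOf_dvd_natCard z
    omega

include hti in
/-- The roots of an involution commute. -/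
theorem roots_comm [IsSimpleGroup G] (hna : ¬ IsMulCommutative G) {x y z : G} (h : Sq x z) (hy : Sq y z) :
    Commute x y := by
  rcases conj_root hti h (show Commute y z from hy.comm_self) with e | e
  · exact (mul_inv_eq_iff_eq_mul.1 e : Commute y x).symm
  rcases conj_root hti hy (show Commute x z from h.comm_self) with e' | e'
  · exact mul_inv_eq_iff_eq_mul.1 e'
  exfalso
  obtain ⟨g, hne, hc⟩ := exists_conj_commute hna h.two
  set z' := g * z * g⁻¹ with hz'
  have h' : Sq (g * x * g⁻¹) z' := h.conj g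
  -- some root centralises `z'`
  obtain ⟨q, hq, hqc⟩ : ∃ q, Sq q z ∧ Commute q z' := by
    rcases conj_root hti h hc with f | f
    · exact ⟨x, h, (mul_inv_eq_iff_eq_mul.1 f : Commute z' x).symm⟩
    rcases conj_root hti hy hc with f' | f'
    · exact ⟨y, hy, (mul_inv_eq_iff_eq_mul.1 f' : Commute z' y).symm⟩
    have hxy : Sq (x * y) z := by
      refine ⟨?_, h.two⟩
      calc x * y * (x * y) = x * (y * x * y⁻¹) * (y * y) := by group
        _ = z := by rw [e, mul_inv_cancel, one_mul, hy.sq]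
    refine ⟨x * y, hxy, (mul_inv_eq_iff_eq_mul.1 ?_ : Commute z' (x * y)).symm⟩
    rw [← conj_mul, f, f']
    calc x⁻¹ * y⁻¹ = x⁻¹ * (x * y * x⁻¹) := by rw [e']
      _ = y * x⁻¹ := by group
      _ = y * x⁻¹ * y⁻¹ * y := by group
      _ = x * y := by rw [← conj_inv, e, inv_inv]
  set x' := g * x * g⁻¹ with hx'
  have hzx' : Commute z x' := symm_commute hti hq h' hqc
  have hne' : z ≠ z' := Ne.symm hne
  have hcx : Commute x' x := commute_roots hti h' h hne hzx'.symm
  have hcy : Commute x' y := commute_roots hti h' hy hne hzx'.symm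
  have hX : Sq (x * x') (z * z') := h.mul h' hcx.symm hne'
  have hY : Sq (y * x') (z * z') := hy.mul h' hcy.symm hne'
  have hval : x * x' * (y * x') * (x * x')⁻¹ = y⁻¹ * x' := by
    calc x * x' * (y * x') * (x * x')⁻¹ = x * (x' * y) * x⁻¹ := by group
      _ = x * (y * x') * x⁻¹ := by rw [hcy.eq]
      _ = (x * y * x⁻¹) * (x * x' * x⁻¹) := by group
      _ = y⁻¹ * x' := by rw [e', hcx.symm.eq, mul_inv_cancel_right]
  rcases conj_root hti hY hX.comm_self with f | f
  · rw [hval] at f
    exact hy.inv_ne (mul_right_cancel f)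
  · rw [hval, _root_.mul_inv_rev, hcy.inv_inv.eq] at f
    exact h'.inv_ne (mul_left_cancel f).symm

end Cfsg.Agent.Invol.CycTI
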