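import Cfsg.Agent.Lib.Invol.CycTI.Shape

/-!
The Sylow 2-subgroup with an inverted root is dihedral: the focal subgroup lies in a dihedral subgroup.
-/

set_option autoImplicit false
set_option linter.unusedSectionVars false
set_option linter.style.haveILetI false

universe u

namespace Cfsg.Agent.Invol.CycTI

open Subgroup
open scoped commutatorElement

variable {G : Type u} [Group G] [Finite G]

namespace Inv

variable {P : Sylow 2 G} {x z t : G} (D : Inv P x z t) (hti : Ti G) [IsSimpleGroup G] (hna : ¬ IsMulCommutative G)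
include D hti hna

/-- A conjugate `u` of `z` inverting `x` has a root inverted by `z`. -/
theorem root_of_conj {u g : G} (hux : u * x * u⁻¹ = x⁻¹) (hg : g * z * g⁻¹ = u) (hu : u ∈ (P : Subgroup G)) :
    Sq (g * x * g⁻¹) u ∧ z * (g * x * g⁻¹) * z⁻¹ = (g * x * g⁻¹)⁻¹ := by
  have hr : Sq (g * x * g⁻¹) u := hg ▸ D.sq.conj g
  refine ⟨hr, (conj_root hti hr (D.cen u hu).symm).resolve_left fun e => D.not_both hux ?_⟩
  exact symm_commute hti hr D.sq (mul_inv_eq_iff_eq_mul.1 e : Commute z (g * x * g⁻¹)).symm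

/-- `z` is the only square involution of `P`. -/
theorem square_eq {r j : G} (hrP : r ∈ (P : Subgroup G)) (hr : Sq r j) : j = z := by
  by_contra hne
  obtain ⟨g, e₀, he₀P, he₀2, he₀x, hg⟩ := D.exists_conj_z hti hna D.tP D.inv
  set u := t * e₀ with hu
  have huP : u ∈ (P : Subgroup G) := mul_mem D.tP he₀P
  have hux : u * x * u⁻¹ = x⁻¹ := D.inv_mul_comm D.inv he₀x
  obtain ⟨hxu, hzxu⟩ := D.root_of_conj hti hna hux hg huP
  set xu := g * x * g⁻¹ with hxudef
  have hrx : Commute r x := root_commute hti hna P D.sq D.cen hrP hr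
  have hjcen : Cen P j := D.cen_square hti hna hrP hr
  obtain ⟨a, w, haP, hw, hwu⟩ : ∃ a w, a ∈ (P : Subgroup G) ∧ Sq a w ∧ Commute w xu := by
    rcases conj_root hti hxu (show Commute j u from (hjcen u huP).symm) with e | e
    · exact ⟨r, j, hrP, hr, mul_inv_eq_iff_eq_mul.1 e⟩
    · refine ⟨x * r, z * j, mul_mem D.xP hrP, D.sq.mul hr hrx.symm (Ne.symm hne), mul_inv_eq_iff_eq_mul.1 ?_⟩
      rw [show z * j * xu * (z * j)⁻¹ = z * (j * xu * j⁻¹) * z⁻¹ by group, e, ← conj_inv, hzxu, inv_inv]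
  have hax : Commute a x := root_commute hti hna P D.sq D.cen haP hw
  have hua : u * a * u⁻¹ = a⁻¹ := D.t_inv hti hna haP hax huP hux
  have hval : a * u * a⁻¹ = w * u := by
    calc a * u * a⁻¹ = a * (u * a * u⁻¹)⁻¹ * u := by group
      _ = w * u := by rw [hua, inv_inv, hw.sq]
  have hsq : a * xu * a⁻¹ * (a * xu * a⁻¹) = w * u := by
    rw [← hval, ← hxu.sq]; group
  have key : a * xu * a⁻¹ * (a * xu * a⁻¹) = u := by
    rcases conj_root hti hw hwu.symm with e | e
    · rw [show a * xu * a⁻¹ = a * (xu * a * xu⁻¹)⁻¹ * xu by group, e, mul_inv_cancel, one_mul, hxu.sq]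
    · rw [show a * xu * a⁻¹ = a * (xu * a * xu⁻¹)⁻¹ * xu by group, e, inv_inv, hw.sq,
        hwu.symm.mul_mul_mul_comm w xu, mul_self hw.two, one_mul, hxu.sq]
  rw [hsq] at key
  exact ne_one_of_two hw.two (mul_eq_right.1 key)

/-- Conjugate involutions centralising `x` are equal. -/
theorem central_conj_eq {e g : G} (he : e ∈ (P : Subgroup G)) (he2 : e * e = 1) (hex : Commute e x)
    (hf : g * e * g⁻¹ ∈ (P : Subgroup G)) (hfx : Commute (g * e * g⁻¹) x) : g * e * g⁻¹ = e := by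
  haveI := Fact.mk Nat.prime_two
  have hf2 : g * e * g⁻¹ * (g * e * g⁻¹) = 1 := by rw [conj_mul, he2]; group
  have hc1 : e ∈ centralizer ((P : Subgroup G) : Set G) :=
    mem_centralizer_iff.2 fun p hp => (D.cen_of_comm hti hna he he2 hex p hp).eq
  have hc2 : g⁻¹⁻¹ * e * g⁻¹ ∈ centralizer ((P : Subgroup G) : Set G) := by
    rw [inv_inv]
    exact mem_centralizer_iff.2 fun p hp => (D.cen_of_comm hti hna hf hf2 hfx p hp).eq
  obtain ⟨n, hn, hne⟩ := P.conj_eq_normalizer_conj_of_mem_centralizer e g⁻¹ hc1 hc2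
  rw [inv_inv] at hne
  rw [hne]
  have hm : ∀ p ∈ (P : Subgroup G), n⁻¹ * p * n ∈ (P : Subgroup G) := fun p hp => by
    simpa using (mem_normalizer_iff.1 (inv_mem hn) p).1 hp
  set m := n⁻¹ with hmdef
  have hmN : m ∈ normalizer ((P : Subgroup G) : Set G) := inv_mem hn
  have hm' : ∀ {w : G}, w ∈ normalizer ((P : Subgroup G) : Set G) → Commute w z := by
    intro w hw
    refine mul_inv_eq_iff_eq_mul.1 (D.square_eq hti hna ?_ (D.sq.conj w))
    exact (mem_normalizer_iff.1 hw x).1 D.xP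
  -- squares of the normaliser centralise `e`
  have hsqc : ∀ w ∈ normalizer ((P : Subgroup G) : Set G), Commute (w * w) e := by
    intro w hw
    have hwz := hm' hw
    have hr : Sq (x * e) z := root_mul hti D.sq he2 hex.symm
    have h1 : ∀ {y : G}, Sq y z → w * w * y * (w * w)⁻¹ = y := by
      intro y hy
      rw [show w * w * y * (w * w)⁻¹ = w * (w * y * w⁻¹) * w⁻¹ by group]
      rcases conj_root hti hy hwz with f | f
      · rw [f, f]
      · rw [f, ← conj_inv, f, inv_inv]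
    have h2 := h1 hr
    rw [← conj_mul, h1 D.sq] at h2
    exact mul_inv_eq_iff_eq_mul.1 (mul_left_cancel h2)
  obtain ⟨a, o, ho, hao⟩ := Nat.exists_eq_two_pow_mul_odd (orderOf_pos m).ne'
  have hmo : m ^ o ∈ (P : Subgroup G) := by
    set N := normalizer ((P : Subgroup G) : Set G)
    have hp : IsPGroup 2 (zpowers (m ^ o)) := by
      refine IsPGroup.of_card (n := a) ?_
      rw [Nat.card_zpowers, orderOf_pow' m (by rintro rfl; simp at ho), hao, Nat.gcd_mul_left_left,
        Nat.mul_div_cancel _ ho.pos]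
    have hsup : IsPGroup 2 ↥((P : Subgroup G) ⊔ zpowers (m ^ o)) :=
      IsPGroup.to_sup_of_normal_left' P.isPGroup' hp (zpowers_le.2 (pow_mem hmN o))
    exact (P.is_maximal' hsup le_sup_left) ▸ mem_sup_right (mem_zpowers _)
  obtain ⟨b, rfl⟩ := ho
  have h3 : Commute (m ^ (2 * b)) e := by rw [pow_mul, pow_two]; exact (hsqc m hmN).pow_left b
  have h4 : Commute (m ^ (2 * b + 1)) e := D.cen_of_comm hti hna he he2 hex _ hmo
  rw [pow_succ] at h4
  have h5 : Commute m e := by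
    have := h3.inv_left.mul_left h4
    rwa [inv_mul_cancel_left] at this
  rw [show n = m⁻¹ by rw [hmdef, inv_inv], h5.eq, mul_inv_cancel_right]

/-- The Sylow subgroup is dihedral. -/
theorem dihedral : ∃ n : ℕ, 2 ≤ n ∧ Nonempty (↥(P : Subgroup G) ≃* DihedralGroup n) := by
  classical
  haveI := Fact.mk Nat.prime_two
  -- an element of maximal order centralising `x`
  obtain ⟨c, ⟨hcP, hcx⟩, hmax⟩ := Set.exists_max_image {p : G | p ∈ (P : Subgroup G) ∧ Commute p x} orderOf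
    (Set.toFinite _) ⟨x, D.xP, Commute.refl x⟩
  have hcmax : ∀ p : G, p ∈ (P : Subgroup G) → Commute p x → orderOf p ≤ orderOf c :=
    fun p hp hpx => hmax p ⟨hp, hpx⟩
  have hc4 : 4 ≤ orderOf c := by
    have h := hcmax x D.xP (Commute.refl x)
    rwa [D.sq.ord, show (2 : ℕ) ^ 2 = 4 from rfl] at h
  have htop : ∀ p ∈ (P : Subgroup G), p * p ≠ 1 → ∃ k, 2 ≤ k ∧ orderOf p = 2 ^ k ∧ p ^ 2 ^ (k - 1) = z := by
    intro p hp h2
    obtain ⟨k, hk, hko⟩ := ord_ge P hp h2
    exact ⟨k, hk, hko, D.square_eq hti hna (pow_mem hp _) (top_power hk hko)⟩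
  obtain ⟨kc, hkc, hkco, hcz⟩ := htop c hcP fun e => by
    have : orderOf c ≤ 2 := orderOf_le_of_pow_eq_one two_pos (by rw [pow_two, e])
    omega
  -- the centraliser of `x` is `⟨c⟩` times involutions
  have hdec : ∀ n, ∀ s : G, s ∈ (P : Subgroup G) → Commute s x → orderOf s = n →
      ∃ (i : ℕ) (e : G), e ∈ (P : Subgroup G) ∧ e * e = 1 ∧ Commute e x ∧ s = c ^ i * e := by
    intro n
    induction n using Nat.strong_induction_on with
    | _ n ih =>
    intro s hs hsx hn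
    by_cases h2 : s * s = 1
    · exact ⟨0, s, hs, h2, hsx, by rw [pow_zero, one_mul]⟩
    obtain ⟨m, hm, hmo, hmz⟩ := htop s hs h2
    have hmk : m ≤ kc := (Nat.pow_le_pow_iff_right (by norm_num : 1 < 2)).1
      (hmo ▸ hkco ▸ hcmax s hs hsx)
    set l := 2 ^ (kc - m) with hl
    have hcs : Commute s (c ^ l) := (D.comm_in hti hna hs hsx hcP hcx).pow_right _
    have h1 : (s * c ^ l) ^ 2 ^ (m - 1) = 1 := by
      rw [hcs.mul_pow, hmz, ← pow_mul, hl, ← pow_add, show kc - m + (m - 1) = kc - 1 by omega, hcz,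
        mul_self D.sq.two]
    obtain ⟨i, e, heP, he2, hex, hie⟩ := ih _ (by
      refine lt_of_le_of_lt (orderOf_le_of_pow_eq_one (by positivity) h1) ?_
      rw [← hn, hmo]; exact Nat.pow_lt_pow_right one_lt_two (by omega))
      (s * c ^ l) (mul_mem hs (pow_mem hcP _)) (hsx.mul_left (hcx.pow_left _)) rfl
    refine ⟨i + (orderOf c - l % orderOf c), e, heP, he2, hex, ?_⟩
    have hinv : c ^ (orderOf c - l % orderOf c) = (c ^ l)⁻¹ := by
      refine eq_inv_of_mul_eq_one_left ?_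
      rw [← pow_mod_orderOf c l, ← pow_add, Nat.sub_add_cancel (Nat.mod_lt _ (orderOf_pos c)).le, pow_orderOf_eq_one]
    rw [pow_add, hinv, mul_assoc, ← (D.cen_of_comm hti hna heP he2 hex _ (inv_mem (pow_mem hcP l))).symm.eq,
      ← mul_assoc, ← hie, mul_inv_cancel_right]
  -- the two involutions
  have htcx : t * c * x * (t * c)⁻¹ = x⁻¹ := D.inv_mul_comm D.inv hcx
  obtain ⟨g₁, e₁, he₁P, he₁2, he₁x, hg₁⟩ := D.exists_conj_z hti hna D.tP D.inv
  obtain ⟨g₂, e₂, he₂P, he₂2, he₂x, hg₂⟩ := D.exists_conj_z hti hna (mul_mem D.tP hcP) htcx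
  set u₁ := t * e₁ with hu₁
  set u₂ := t * c * e₂ with hu₂
  have hu₁P : u₁ ∈ (P : Subgroup G) := mul_mem D.tP he₁P
  have hu₂P : u₂ ∈ (P : Subgroup G) := mul_mem (mul_mem D.tP hcP) he₂P
  have hu₁x : u₁ * x * u₁⁻¹ = x⁻¹ := D.inv_mul_comm D.inv he₁x
  have hu₂x : u₂ * x * u₂⁻¹ = x⁻¹ := D.inv_mul_comm htcx he₂x
  have ho : ∀ {u : G}, u ∈ (P : Subgroup G) → u * x * u⁻¹ = x⁻¹ → orderOf u = 2 := fun {u} hu hux =>
    orderOf_eq_prime (by rw [pow_two, D.invol_out hti hna hu hux]) fun e => D.sq.inv_ne (by simpa [e] using hux.symm)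
  set W := closure ({u₁, u₂} : Set G) with hW
  have hWP : W ≤ (P : Subgroup G) := (closure_le _).2 (by
    rintro _ (rfl | rfl) <;> assumption)
  -- powers of `c`
  set f := e₁ * e₂ with hf
  have hfP : f ∈ (P : Subgroup G) := mul_mem he₁P he₂P
  have hfc : Cen P e₁ ∧ Cen P e₂ := ⟨D.cen_of_comm hti hna he₁P he₁2 he₁x, D.cen_of_comm hti hna he₂P he₂2 he₂x⟩
  have hprod : u₁ * u₂ = c * f := by
    calc u₁ * u₂ = t * e₁ * (t * c) * e₂ := by rw [hu₁, hu₂]; group
      _ = t * t * c * (e₁ * e₂) := by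
        rw [mul_assoc t e₁, ← (hfc.1 (t * c) (mul_mem D.tP hcP)).eq]; group
      _ = c * f := by rw [mul_self D.two, one_mul]
  have hcf : Commute c f := (hfc.1 c hcP).mul_right (hfc.2 c hcP)
  have hff : f * f = 1 := by
    rw [hf, (hfc.2 e₁ he₁P).symm.mul_mul_mul_comm e₁ e₂, he₁2, he₂2, one_mul]
  have hu₁W : u₁ ∈ W := mem_closure_of_mem (by simp)
  have hu₂W : u₂ ∈ W := mem_closure_of_mem (by simp)
  have hc2W : c ^ 2 ∈ W := by
    have h : (u₁ * u₂) ^ 2 ∈ W := pow_mem (mul_mem hu₁W hu₂W) 2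
    rwa [hprod, hcf.mul_pow, pow_two f, hff, mul_one] at h
  have hzW : z ∈ W := by
    rw [← hcz, show 2 ^ (kc - 1) = 2 * 2 ^ (kc - 2) by rw [← pow_succ', show kc - 2 + 1 = kc - 1 by omega], pow_mul]
    exact pow_mem hc2W _
  -- involutions are congruent to the involutions centralising `x`
  have hclass : ∀ v ∈ (P : Subgroup G), v * v = 1 →
      ∃ e g : G, e ∈ (P : Subgroup G) ∧ e * e = 1 ∧ Commute e x ∧ g * v * g⁻¹ = e ∧ v⁻¹ * e ∈ W := by
    intro v hv hv2
    rcases D.dichotomy hti hv with hvx | hvx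
    · exact ⟨v, 1, hv, hv2, hvx, by group, by rw [inv_mul_cancel]; exact one_mem W⟩
    obtain ⟨i, e, heP, he2, hex, hie⟩ := hdec _ (t * v) (mul_mem D.tP hv) (D.inv_mul_inv D.inv hvx) rfl
    -- choose the conjugate of `z` in the coset
    obtain ⟨u, g, l, w, huW, huP, hux, hg, hwP, hw2, hwx, hvu⟩ : ∃ (u g : G) (l : ℕ) (w : G), u ∈ W ∧
        u ∈ (P : Subgroup G) ∧ u * x * u⁻¹ = x⁻¹ ∧ g * z * g⁻¹ = u ∧ w ∈ (P : Subgroup G) ∧ w * w = 1 ∧
        Commute w x ∧ v = u * c ^ (2 * l) * w := by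
      have htv : v = t * (c ^ i * e) := by rw [← hie, ← mul_assoc, mul_self D.two, one_mul]
      obtain ⟨l, rfl | rfl⟩ := Nat.even_or_odd' i
      · refine ⟨u₁, g₁, l, e₁ * e, hu₁W, hu₁P, hu₁x, hg₁, mul_mem he₁P heP, ?_, he₁x.mul_left hex, ?_⟩
        · rw [(D.comm_in hti hna heP hex he₁P he₁x).mul_mul_mul_comm e₁ e, he₁2, he2, one_mul]
        · calc v = t * (c ^ (2 * l) * (e₁ * e₁)) * e := by rw [htv, he₁2, mul_one]; group
            _ = t * (e₁ * c ^ (2 * l)) * (e₁ * e) := by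
              rw [← mul_assoc (c ^ (2 * l)), (hfc.1 _ (pow_mem hcP (2 * l))).eq]; group
            _ = u₁ * c ^ (2 * l) * (e₁ * e) := by rw [hu₁]; group
      · refine ⟨u₂, g₂, l, e₂ * e, hu₂W, hu₂P, hu₂x, hg₂, mul_mem he₂P heP, ?_, he₂x.mul_left hex, ?_⟩
        · rw [(D.comm_in hti hna heP hex he₂P he₂x).mul_mul_mul_comm e₂ e, he₂2, he2, one_mul]
        · calc v = t * (c * c ^ (2 * l) * e) := by rw [htv, ← pow_succ']
            _ = t * c * (c ^ (2 * l) * (e₂ * e₂)) * e := by rw [he₂2, mul_one]; group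
            _ = t * c * (e₂ * c ^ (2 * l)) * (e₂ * e) := by
              rw [← mul_assoc (c ^ (2 * l)), (hfc.2 _ (pow_mem hcP (2 * l))).eq]; group
            _ = u₂ * c ^ (2 * l) * (e₂ * e) := by rw [hu₂]; group
    have hcinv := D.t_inv hti hna (pow_mem hcP l) (hcx.pow_left l) huP hux
    have hcl : u * c ^ (2 * l) = (c ^ l)⁻¹ * u * c ^ l := by
      rw [show 2 * l = l + l by ring, pow_add, ← hcinv]; group
    set u' := u * c ^ (2 * l) with hu'
    have hu'W : u' ∈ W := mul_mem huW (by rw [pow_mul]; exact pow_mem hc2W l)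
    have hu'P : u' ∈ (P : Subgroup G) := hWP hu'W
    have hu'x : u' * x * u'⁻¹ = x⁻¹ := D.inv_mul_comm hux (hcx.pow_left _)
    obtain ⟨hr, hzr⟩ := D.root_of_conj hti hna hu'x (g := (c ^ l)⁻¹ * g)
      (by rw [hcl, ← hg]; group) hu'P
    set xr := (c ^ l)⁻¹ * g * x * ((c ^ l)⁻¹ * g)⁻¹ with hxr
    -- `x` and the root fuse `u'` to `z`
    have h1 : x * u' * x⁻¹ = z * u' := by
      calc x * u' * x⁻¹ = x * (u' * x * u'⁻¹)⁻¹ * u' := by group
        _ = z * u' := by rw [hu'x, inv_inv, D.sq.sq]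
    have h2 : xr * z * xr⁻¹ = u' * z := by
      calc xr * z * xr⁻¹ = xr * (z * xr⁻¹ * z⁻¹) * z := by group
        _ = u' * z := by rw [← conj_inv, hzr, inv_inv, hr.sq]
    have h3 : xr * (z * u') * xr⁻¹ = z := by
      rw [← conj_mul, h2, hr.comm_self.eq, mul_inv_cancel_right, mul_assoc, ← (D.cen u' hu'P).eq, ← mul_assoc,
        D.invol_out hti hna hu'P hu'x, one_mul]
    have hwcen := D.cen_of_comm hti hna hwP hw2 hwx
    obtain ⟨w', hw'P, hw'2, hw'x, hw'r, hww'⟩ : ∃ w', w' ∈ (P : Subgroup G) ∧ w' * w' = 1 ∧ Commute w' x ∧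
        Commute xr w' ∧ (w = w' ∨ w = z * w') := by
      rcases conj_root hti hr (show Commute w u' from (hwcen u' hu'P).symm) with f | f
      · exact ⟨w, hwP, hw2, hwx, (mul_inv_eq_iff_eq_mul.1 f : Commute w xr).symm, Or.inl rfl⟩
      · refine ⟨z * w, mul_mem D.z_mem hwP, ?_, D.sq.comm_self.symm.mul_left hwx,
          (mul_inv_eq_iff_eq_mul.1 ?_ : Commute (z * w) xr).symm, Or.inr ?_⟩
        · rw [(show Commute w z from D.cen w hwP).mul_mul_mul_comm z w, mul_self D.sq.two, hw2, one_mul]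
        · rw [show z * w * xr * (z * w)⁻¹ = z * (w * xr * w⁻¹) * z⁻¹ by group, f, ← conj_inv, hzr, inv_inv]
        · rw [← mul_assoc, mul_self D.sq.two, one_mul]
    have hxw' : Commute x w' := hw'x.symm
    have hmove : xr * x * (u' * w') * (xr * x)⁻¹ = z * w' := by
      calc xr * x * (u' * w') * (xr * x)⁻¹ = xr * (x * u' * x⁻¹ * (x * w' * x⁻¹)) * xr⁻¹ := by group
        _ = xr * (z * u') * xr⁻¹ * (xr * w' * xr⁻¹) := by rw [h1, hxw'.eq, mul_inv_cancel_right]; group
        _ = z * w' := by rw [h3, hw'r.eq, mul_inv_cancel_right]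
    have hzw' : Commute (z * w') x := D.sq.comm_self.symm.mul_left hw'x
    have hzw2 : z * w' * (z * w') = 1 := by
      rw [(show Commute w' z from D.cen w' hw'P).mul_mul_mul_comm z w', mul_self D.sq.two, hw'2, one_mul]
    obtain ⟨g', hg'⟩ : ∃ g' : G, g' * v * g'⁻¹ = z * w' := by
      rcases hww' with hww | hww
      · exact ⟨xr * x, by rw [hvu, hww]; exact hmove⟩
      · refine ⟨xr * x * x⁻¹⁻¹, ?_⟩
        have h4 : x * (u' * (z * w')) * x⁻¹ = u' * w' := by
          calc x * (u' * (z * w')) * x⁻¹ = x * u' * x⁻¹ * (x * z * x⁻¹) * (x * w' * x⁻¹) := by group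
            _ = z * u' * z * w' := by rw [h1, D.sq.comm_self.eq, mul_inv_cancel_right, hxw'.eq, mul_inv_cancel_right]
            _ = u' * w' := by rw [← (D.cen u' hu'P).eq, mul_assoc u' z z, mul_self D.sq.two, mul_one]
        calc xr * x * x⁻¹⁻¹ * v * (xr * x * x⁻¹⁻¹)⁻¹
            = xr * x * (x * (u' * (z * w')) * x⁻¹) * (xr * x)⁻¹ := by rw [hvu, hww]; group
          _ = z * w' := by rw [h4]; exact hmove
    refine ⟨z * w', g', mul_mem D.z_mem hw'P, hzw2, hzw', hg', ?_⟩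
    rw [inv_eq_of_mul_eq_one_right hv2, hvu]
    have hz' := fun p (hp : p ∈ (P : Subgroup G)) => (D.cen p hp).eq
    rcases hww' with hww | hww <;> rw [hww]
    · rw [show u' * w' * (z * w') = u' * (w' * z) * w' by group, hz' w' hw'P,
        show u' * (z * w') * w' = u' * z * (w' * w') by group, hw'2, mul_one]
      exact mul_mem hu'W hzW
    · rw [mul_assoc u', hzw2, mul_one]
      exact hu'W
  -- the focal subgroup
  have hfoc : (P : Subgroup G).focalSubgroup ≤ W := by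
    rw [focalSubgroup_def, closure_le]
    rintro _ ⟨hmemP, p, hp, u, rfl⟩
    rw [SetLike.mem_coe, commutatorElement_def]
    have hup : u * p⁻¹ * u⁻¹ ∈ (P : Subgroup G) := by
      rw [show u * p⁻¹ * u⁻¹ = p⁻¹ * (p * u * p⁻¹ * u⁻¹) by group]
      exact mul_mem (inv_mem hp) hmemP
    suffices key : ∀ a ∈ (P : Subgroup G), u * a * u⁻¹ ∈ (P : Subgroup G) → a⁻¹ * (u * a * u⁻¹) ∈ W by
      have := key p⁻¹ (inv_mem hp) hup
      rwa [inv_inv, show p * (u * p⁻¹ * u⁻¹) = p * u * p⁻¹ * u⁻¹ by group] at this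
    intro a ha hua
    by_cases ha2 : a * a = 1
    · obtain ⟨e, g, heP, he2, hex, hge, heW⟩ := hclass a ha ha2
      obtain ⟨e', g', he'P, he'2, he'x, hge', he'W⟩ := hclass _ hua (by rw [conj_mul, ha2]; group)
      have hcj : g' * u * g⁻¹ * e * (g' * u * g⁻¹)⁻¹ = e' := by rw [← hge, ← hge']; group
      have heq := D.central_conj_eq hti hna heP he2 hex (hcj.symm ▸ he'P) (hcj.symm ▸ he'x)
      rw [hcj] at heq
      subst heq
      rw [show a⁻¹ * (u * a * u⁻¹) = a⁻¹ * e' * ((u * a * u⁻¹)⁻¹ * e')⁻¹ by group]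
      exact mul_mem heW (inv_mem he'W)
    · have hax : Commute a x := (D.dichotomy hti ha).resolve_right fun h => ha2 (D.invol_out hti hna ha h)
      obtain ⟨k, hk, hko, hkz⟩ := htop a ha ha2
      obtain ⟨k', hk', hko', hkz'⟩ := htop _ hua (by rw [conj_mul]; simpa using ha2)
      rw [show u * a * u⁻¹ = MulAut.conj u a from rfl, MulEquiv.orderOf_eq, hko] at hko'
      rw [← Nat.pow_right_injective le_rfl hko', conj_pow, hkz] at hkz'
      obtain ⟨j, hj⟩ := mem_zpowers_iff.1 (hti a u 2 k _ Nat.prime_two hko (hkz ▸ ne_one_of_two D.sq.two)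
        (hkz ▸ mul_inv_eq_iff_eq_mul.1 hkz'))
      obtain ⟨l, rfl | rfl⟩ := Int.even_or_odd' j
      · exfalso
        have h1 : (u * a * u⁻¹) ^ 2 ^ (k - 1) = 1 := by
          rw [← hj, ← zpow_natCast, ← zpow_mul, ← orderOf_dvd_iff_zpow_eq_one, hko]
          have h9 : 2 ^ k = 2 * 2 ^ (k - 1) := by rw [← pow_succ', show k - 1 + 1 = k by omega]
          rw [h9]
          push_cast
          exact ⟨l, by ring⟩
        rw [conj_pow, hkz, hkz'] at h1
        exact ne_one_of_two D.sq.two h1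
      · rw [← hj, zpow_add, zpow_one, zpow_mul, zpow_two]
        obtain ⟨i, e, heP, he2, hex, hie⟩ := hdec _ a ha hax rfl
        have hsq : a * a = c ^ (2 * i) := by
          rw [hie, (D.comm_in hti hna heP hex (pow_mem hcP i) (hcx.pow_left i)).mul_mul_mul_comm (c ^ i) e, he2,
            mul_one, ← pow_add, two_mul]
        have h8 : a⁻¹ * ((a * a) ^ l * a) = (a * a) ^ l := by
          rw [← (((Commute.refl a).mul_right (Commute.refl a)).zpow_right l).eq]
          group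
        rw [h8, hsq, pow_mul]
        exact zpow_mem (pow_mem hc2W i) l
  have hPW : (P : Subgroup G) = W := by
    refine le_antisymm (le_trans ?_ hfoc) hWP
    rw [← commutator_inf_eq_focalSubgroup P]
    have hcomm : _root_.commutator G = ⊤ :=
      ((inferInstance : (_root_.commutator G).Normal).eq_bot_or_eq_top).resolve_left fun h => hna
        ⟨⟨fun a b => by
          have hm : ⁅a, b⁆ ∈ _root_.commutator G := commutator_mem_commutator (mem_top a) (mem_top b)
          rw [h, mem_bot] at hm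
          exact commutatorElement_eq_one_iff_mul_comm.1 hm⟩⟩
    rw [hcomm, top_inf_eq]
  obtain ⟨e⟩ := Cfsg.Agent.Invol.nonempty_mulEquiv_dihedralGroup (ho hu₁P hu₁x) (ho hu₂P hu₂x)
  refine ⟨orderOf (u₁ * u₂), ?_, ⟨(MulEquiv.subgroupCongr hPW).trans e⟩⟩
  by_contra hlt
  have h1 : u₁ * u₂ = 1 := orderOf_eq_one_iff.1 (by have := orderOf_pos (u₁ * u₂); omega)
  rw [hprod, mul_eq_one_iff_eq_inv, inv_eq_of_mul_eq_one_right hff] at h1
  have : orderOf c ≤ 2 := orderOf_le_of_pow_eq_one two_pos (by rw [pow_two, h1, hff])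
  omega

end Inv

/-- The Sylow 2-subgroups are abelian or dihedral. -/
theorem abelian_or_dihedral (hti : Ti G) [IsSimpleGroup G] (hna : ¬ IsMulCommutative G) (P : Sylow 2 G) :
    IsMulCommutative ↥(P : Subgroup G) ∨ ∃ n : ℕ, 2 ≤ n ∧ Nonempty (↥(P : Subgroup G) ≃* DihedralGroup n) := by
  by_cases h : IsMulCommutative ↥(P : Subgroup G)
  · exact Or.inl h
  obtain ⟨x, z, t, hxP, hx, hz, htP, ht, hinv⟩ := exists_inverting hti hna P h
  exact Or.inr ((⟨hxP, hx, hz, htP, ht, hinv⟩ : Inv P x z t).dihedral hti hna)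

end Cfsg.Agent.Invol.CycTI
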