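import Cfsg.Agent.Lib.Invol.CycTI.Basic
import Cfsg.Agent.Lib.Classical.DicksonCentral
import Cfsg.Agent.Lib.Recog.JOneSquare.Facts

/-!
`L₂(q)` and `J₁` have TI cyclic subgroups of prime power order; `A₇` does not.
-/

set_option autoImplicit false
set_option linter.unusedSectionVars false

universe u

namespace Cfsg.Agent.Invol.CycTI

open Subgroup Matrix

variable {G : Type u} [Group G] [Finite G]

/-- An element moving a nontrivial power of `x` into `⟨x⟩` normalises `⟨x⟩`, for `x` of prime power order. -/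
def Full (G : Type u) [Group G] : Prop :=
  ∀ (x g : G) (p k n : ℕ), p.Prime → orderOf x = p ^ k → x ^ n ≠ 1 → g * x ^ n * g⁻¹ ∈ zpowers x →
    g * x * g⁻¹ ∈ zpowers x

/-- `Full` gives the hypothesis of the classification. -/
theorem hyp_of_full (h : Full G) : ∀ H : Subgroup G, IsCyclic H → IsPrimePow (Nat.card H) →
    ∀ g : G, H.map (MulAut.conj g).toMonoidHom = H ∨ H.map (MulAut.conj g).toMonoidHom ⊓ H = ⊥ := by
  intro H hc hH g
  refine or_iff_not_imp_right.2 fun hb => ?_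
  obtain ⟨x, rfl⟩ := H.isCyclic_iff_exists_zpowers_eq_top.1 hc
  obtain ⟨p, k, hp, -, hpk⟩ := (isPrimePow_nat_iff _).1 hH
  rw [Nat.card_zpowers] at hpk
  obtain ⟨⟨y, ⟨z, hz, rfl⟩, hy'⟩, hy1'⟩ := Subgroup.ne_bot_iff_exists_ne_one.1 hb
  have hy1 : MulAut.conj g z ≠ 1 := fun e => hy1' (Subtype.ext e)
  classical
  obtain ⟨n, -, rfl⟩ := mem_zpowers_iff_mem_range_orderOf.1 hz |> Finset.mem_image.1
  have hn : x ^ n ≠ 1 := fun e => hy1 (by simp [e])
  have hx := h x g p k n hp hpk.symm hn hy'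
  refine Subgroup.eq_of_le_of_card_ge ?_ (le_of_eq (Nat.card_congr (Subgroup.equivMapOfInjective _ _
    (MulAut.conj g).injective).toEquiv))
  rintro - ⟨w, hw, rfl⟩
  obtain ⟨i, rfl⟩ := mem_zpowers_iff.1 hw
  show g * x ^ i * g⁻¹ ∈ zpowers x
  rw [← conj_zpow]
  exact zpow_mem hx i

/-- Elements of prime order satisfy `Full`. -/
theorem full_of_prime {x g : G} {p n : ℕ} (hp : p.Prime) (hx : orderOf x = p) (hn : x ^ n ≠ 1)
    (hg : g * x ^ n * g⁻¹ ∈ zpowers x) : g * x * g⁻¹ ∈ zpowers x := by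
  have hc : n.Coprime (orderOf x) := by
    rw [hx, Nat.coprime_comm, hp.coprime_iff_not_dvd, ← hx, orderOf_dvd_iff_pow_eq_one]
    exact hn
  obtain ⟨j, hj⟩ := exists_pow_eq_self_of_coprime hc
  have h := pow_mem hg j
  rw [conj_pow, hj] at h
  exact h

/-- `Full` passes along isomorphisms. -/
theorem full_of_equiv {H : Type} [Group H] (e : G ≃* H) (h : Full H) : Full G := by
  intro x g p k n hp hx hn hg
  obtain ⟨i, hi⟩ := mem_zpowers_iff.1 hg
  obtain ⟨j, hj⟩ := mem_zpowers_iff.1 (h (e x) (e g) p k n hp (by rw [MulEquiv.orderOf_eq, hx])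
    (fun e' => hn (e.injective (by rw [map_pow, e', map_one])))
    (mem_zpowers_iff.2 ⟨i, by rw [← map_pow, ← map_inv, ← map_mul, ← map_mul, ← map_zpow, hi]⟩))
  exact mem_zpowers_iff.2 ⟨j, e.injective (by rw [map_zpow, hj, map_mul, map_mul, map_inv])⟩

/-- `L₂(q)` satisfies `Full`. -/
theorem full_psl {F : Type} [Field F] [Fintype F] :
    Full (Matrix.ProjectiveSpecialLinearGroup (Fin 2) F) := by
  intro x g p₀ k n hp₀ hx hn hg
  obtain ⟨p, hchar⟩ := CharP.exists F
  haveI := hchar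
  haveI : Fact p.Prime := ⟨CharP.char_is_prime F p⟩
  set D := Dickson.pslData (F := F) p
  have hx1 : x ≠ 1 := fun e => hn (by rw [e, one_pow])
  by_cases hxp : x ^ p = 1
  · exact full_of_prime (Fact.out (p := p.Prime)) (orderOf_eq_prime hxp hx1) hn hg
  have hy : x ^ n ∈ Dickson.tor x := pow_mem (D.self x) n
  have hgy : g * x ^ n * g⁻¹ ∈ Dickson.tor (x ^ n) := by
    rw [show Dickson.tor (x ^ n) = Dickson.tor x from D.same hx1 hy hn]
    exact zpowers_le.2 (D.self x) hg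
  have hgN : g * x * g⁻¹ ∈ Dickson.tor x := by
    refine (D.mem_normalizer_iff hx1).1 ?_
    rw [show D.T x = D.T (x ^ n) from (D.same hx1 hy hn).symm]
    exact (D.mem_normalizer_iff hn).2 hgy
  by_cases hgx : g ∈ Dickson.tor x
  · rw [(D.comm hx1 hgx (D.self x)).eq, mul_inv_cancel_right]
    exact mem_zpowers x
  · rw [(D.semi_flip hx1 hxp hgN hgx).2 x (D.self x)]
    exact inv_mem (mem_zpowers x)

/-- `J₁` satisfies `Full`: its elements of prime power order have prime order. -/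
theorem full_j : Full Recog.JOneSquare.J := by
  intro x g p k n hp hx hn hg
  have hx1 : x ≠ 1 := fun e => hn (by rw [e, one_pow])
  refine full_of_prime hp ?_ hn hg
  have hmem := Recog.JOneSquare.jOrd x
  have hk : k ≠ 0 := fun e => hx1 (by rwa [e, pow_zero, orderOf_eq_one_iff] at hx)
  have hone : ∀ q ∈ Recog.JOneSquare.jOrds,
      q < 20 ∧ ∀ p' < 20, ∀ k' < 5, p' ^ k' = q → 2 ≤ k' → p' < 2 := by decide +kernel
  obtain ⟨hlt, hall⟩ := hone _ hmem
  rw [hx] at hlt hall ⊢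
  have hp20 : p < 20 := lt_of_le_of_lt (Nat.le_self_pow hk p) hlt
  have hk5 : k < 5 := (Nat.pow_lt_pow_iff_right (a := 2) Nat.one_lt_two).1
    (lt_of_le_of_lt (Nat.pow_le_pow_left hp.two_le k) (hlt.trans (by norm_num)))
  have hk1 : k = 1 := by
    by_contra hne
    have := hall p hp20 k hk5 rfl (by omega)
    have := hp.two_le
    omega
  rw [hk1, pow_one]

/-- A group isomorphic to `A₇` does not satisfy `Ti`. -/
theorem not_ti_seven (e : G ≃* ↥(alternatingGroup (Fin 7))) : ¬ Ti G := by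
  intro h
  let a : Equiv.Perm (Fin 7) := Equiv.swap 0 1 * Equiv.swap 1 2 * Equiv.swap 2 3 * Equiv.swap 4 5
  let b : Equiv.Perm (Fin 7) := Equiv.swap 4 5 * Equiv.swap 5 6
  let A : ↥(alternatingGroup (Fin 7)) := ⟨a, Equiv.Perm.mem_alternatingGroup.2 (by decide +kernel)⟩
  let B : ↥(alternatingGroup (Fin 7)) := ⟨b, Equiv.Perm.mem_alternatingGroup.2 (by decide +kernel)⟩
  have hA4 : orderOf A = 2 ^ (1 + 1) := by
    haveI : Fact (Nat.Prime 2) := ⟨Nat.prime_two⟩
    exact orderOf_eq_prime_pow (by decide +kernel) (by decide +kernel)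
  have hc : Commute (e.symm B) (e.symm A ^ 2) := by
    rw [← map_pow]
    exact Commute.map (show Commute B (A ^ 2) by unfold Commute SemiconjBy; decide +kernel) e.symm
  have hA2 : A ^ 2 ≠ 1 := by decide +kernel
  have h2 := h (e.symm A) (e.symm B) 2 (1 + 1) 2 Nat.prime_two (by rw [MulEquiv.orderOf_eq, hA4])
    (fun e' => hA2 (e.symm.injective (by rw [map_pow, e', map_one]))) hc
  haveI := _root_.Classical.decEq G
  obtain ⟨i, -, hi⟩ := (mem_zpowers_iff_mem_range_orderOf.1 h2) |> Finset.mem_image.1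
  have hi' : A ^ i = B * A * B⁻¹ := e.symm.injective (by simpa using hi)
  have hbad : ∀ j : Fin 4, A ^ (j : ℕ) ≠ B * A * B⁻¹ := by decide +kernel
  exact hbad ⟨i % 4, Nat.mod_lt _ (by norm_num)⟩ (by
    show A ^ (i % 4) = _
    rw [show (4 : ℕ) = orderOf A by rw [hA4]; rfl, pow_mod_orderOf, hi'])

end Cfsg.Agent.Invol.CycTI
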