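import Cfsg.Agent.Lib.Invol.CycTI.Dihedral
import Cfsg.Agent.Lib.Invol.CycTI.Models
import Cfsg.Agent.Lib.Invol.CycTI.Ree.CaseTwo
import Cfsg.Agent.Lib.Invol.AbelTwo.ReeAbel.Main
import Cfsg.Agent.Lib.Invol.AbelTwo.ReeTrans.Main
import Cfsg.Agent.Lib.Invol.JankoWard.Ward
import Cfsg.Agent.Lib.Invol.CentSix.SolvSmall
import Cfsg.Agent.S0483

/-!
# Simple groups in which the cyclic subgroups of prime power order are TI
-/

set_option autoImplicit false
set_option linter.unusedSectionVars false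
set_option linter.style.haveILetI false

namespace Cfsg.Agent.Invol.CycTI

open Subgroup
open Cfsg.Agent.Invol
open scoped _root_.Classical

universe u

variable {G : Type u} [Group G] [Finite G]

/-- Groups of Ree type are not `Ti`. -/
theorem ree_not_ti [IsSimpleGroup G] (hG : ¬ IsMulCommutative G) (S : Sylow 2 G)
    (h8 : Nat.card ↥(S : Subgroup G) = 8) (hel : ∀ x ∈ (S : Subgroup G), x * x = 1) {t : G} (ht : orderOf t = 2)
    (hodd : Odd (centralizer ({t} : Set G)).index) {L : Subgroup G}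
    (hL : Cfsg.IsInternalDirectProduct (zpowers t) L (centralizer ({t} : Set G)))
    {F : Type} [Field F] [Fintype F] {m : ℕ} (hm : 1 ≤ m) (hF : Fintype.card F = 3 ^ (2 * m + 1))
    (e : ↥L ≃* Matrix.ProjectiveSpecialLinearGroup (Fin 2) F)
    (hord : Nat.card G = (3 ^ (2 * m + 1)) ^ 3 * ((3 ^ (2 * m + 1)) ^ 3 + 1) * (3 ^ (2 * m + 1) - 1))
    (hti : Ti G) : False := by
  obtain ⟨-, -, hcomm, hinf, hsup⟩ := id hL
  let ι : Matrix.ProjectiveSpecialLinearGroup (Fin 2) F →* G := L.subtype.comp e.symm.toMonoidHom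
  have hmem : ∀ k, ι k ∈ L := fun k => (e.symm k).2
  have htc : ∀ k, ι k * t = t * ι k := fun k => (hcomm t (mem_zpowers t) _ (hmem k)).symm
  have hinj : Function.Injective ι := Subtype.val_injective.comp e.symm.injective
  have hn : L ≤ normalizer (zpowers t : Set G) := fun k hk => centralizer_le_normalizer _
    (mem_centralizer_iff.2 fun d hd => hcomm d hd k hk)
  have hcover : ∀ c : G, c * t = t * c → ∃ k, c = ι k ∨ c = t * ι k := by
    intro c hc
    have hc' : c ∈ zpowers t ⊔ L := by rw [hsup]; exact mem_centralizer_singleton_iff.2 hc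
    rw [← SetLike.mem_coe, coe_mul_of_right_le_normalizer_left _ _ hn] at hc'
    obtain ⟨d, hd, k, hk, rfl⟩ := hc'
    obtain ⟨i, rfl⟩ := mem_zpowers_iff.1 hd
    refine ⟨e ⟨k, hk⟩, ?_⟩
    show t ^ i * k = ι (e ⟨k, hk⟩) ∨ t ^ i * k = t * ι (e ⟨k, hk⟩)
    rw [show ι (e ⟨k, hk⟩) = k by simp [ι], ← zpow_mod_orderOf, ht]
    rcases (show i % ((2 : ℕ) : ℤ) = 0 ∨ i % ((2 : ℕ) : ℤ) = 1 by omega) with h | h
      <;> simp only [Nat.cast_ofNat] at h ⊢ <;> simp [h]
  have htnot : ∀ k, ι k ≠ t := fun k hk => by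
    have h1 : t ∈ zpowers t ⊓ L := ⟨mem_zpowers t, hk ▸ hmem k⟩
    rw [hinf, mem_bot] at h1
    rw [h1, orderOf_one] at ht
    norm_num at ht
  have h8F : Fintype.card F % 8 = 3 := by
    rw [hF, pow_succ, pow_mul, Nat.mul_mod, Nat.pow_mod]; norm_num
  have h27 : 27 ≤ Fintype.card F := by
    rw [hF]; exact le_trans (show 27 ≤ 3 ^ 3 by norm_num) (Nat.pow_le_pow_right (by norm_num) (by omega))
  obtain ⟨D, -, hDq⟩ := JankoWard.PSL.exists_lData_lChars F (Or.inl h8F) (by omega)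
  obtain ⟨pk⟩ := AbelTwo.ReeAbel.exists_pack (F := F) (by omega)
  have hδ : D.δ = -1 := by
    rcases D.hδ with h | h
    · exfalso
      have h1 := D.hq
      obtain ⟨d, hd⟩ := D.r_odd
      rw [h, hDq] at h1
      omega
    · exact h
  let lp : AbelTwo.ReeTrans.LPack (Matrix.ProjectiveSpecialLinearGroup (Fin 2) F) :=
    { D := D
      K := hDq ▸ pk
      e := 2 * m + 1
      hqe := hDq.trans hF
      q_ge := hDq ▸ h27
      hδ := hδ
      rigid := fun k hk hk1 a j ha h => AbelTwo.psl_three_rigid hF hk hk1 ha h }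
  let B : JankoWard.Base G (Matrix.ProjectiveSpecialLinearGroup (Fin 2) F) :=
    { D := D, t := t, ι := ι, inj := hinj, ht := ht, hodd := hodd, tc := htc, cover := hcover, t_not := htnot }
  have A := JankoWard.Amb.of_sylow hG S h8 hel
  obtain ⟨loc⟩ := B.exists_locals A
  let T : AbelTwo.ReeTrans.Data G (Matrix.ProjectiveSpecialLinearGroup (Fin 2) F) :=
    { lp := lp, B := B, hBD := rfl, loc := loc, amb := A
      card_G := by
        show Nat.card G = D.q ^ 3 * (D.q ^ 3 + 1) * (D.q - 1)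
        rw [hDq, hF]; exact hord }
  obtain ⟨Q, hc, hQ, hUQ, hT⟩ := T.exists_sylow
  let X : Ree.Sys G (Matrix.ProjectiveSpecialLinearGroup (Fin 2) F) :=
    { S := T, Q := Q, hc := hc, hQ := hQ, hUQ := hUQ, hT := hT }
  refine X.not_ti (fun hab => ?_) hti
  refine AbelTwo.not_abelian_three hG (fun S' => ?_) ht hodd hL hm hF e hord
  haveI : Fact (Nat.Prime 3) := ⟨Nat.prime_three⟩
  obtain ⟨R, hR⟩ := X.hQ.exists_le_sylow
  have hRQ : X.Q = (R : Subgroup G) := by
    obtain ⟨k, hk⟩ := IsPGroup.iff_card.1 R.isPGroup'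
    refine eq_of_le_of_card_ge hR ?_
    rw [X.hc, hk]
    refine Nat.le_of_dvd (pow_pos (lt_of_lt_of_le (by norm_num) X.q_ge) 3)
      ((X.S.three_coprime.pow_left k).dvd_of_dvd_mul_left ?_)
    rw [← X.S.card_G', ← hk]
    exact card_subgroup_dvd_card (R : Subgroup G)
  haveI : IsMulCommutative ↥(R : Subgroup G) := hRQ ▸ hab
  let f := R.equiv S'
  exact ⟨⟨fun a b => f.symm.injective (by
    rw [map_mul, map_mul]
    exact this.is_comm.comm _ _)⟩⟩

/-- The classification, forwards. -/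
theorem models_of_ti [IsSimpleGroup G] (hG : ¬ IsMulCommutative G) (hti : Ti G) :
    (∃ (F : Type) (_ : Field F) (_ : Fintype F), 3 < Fintype.card F ∧
      Nonempty (G ≃* Matrix.ProjectiveSpecialLinearGroup (Fin 2) F)) ∨ Cfsg.Spor.IsoJ1 G := by
  haveI : Fact (Nat.Prime 2) := ⟨Nat.prime_two⟩
  let S : Sylow 2 G := default
  have h2 := ThreeFree.two_dvd_card hG
  rcases abelian_or_dihedral hti hG S with hS | ⟨n, hn, hS⟩
  · rcases AbelTwo.trichotomy hG h2 S hS with
      ⟨F, i, j, n, hn, hF, he⟩ | ⟨F, i, j, -, h5, -, he⟩ | ⟨h8, hE, hJ⟩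
    · refine Or.inl ⟨F, i, j, ?_, he⟩
      rw [hF]
      exact lt_of_lt_of_le (by norm_num : 3 < 2 ^ 2) (Nat.pow_le_pow_right two_pos hn)
    · exact Or.inl ⟨F, i, j, by omega, he⟩
    · obtain ⟨⟨t, htS⟩, ht⟩ := exists_prime_orderOf_dvd_card' (G := ↥(S : Subgroup G)) 2 (by rw [h8]; norm_num)
      rw [Subgroup.orderOf_mk] at ht
      obtain ⟨hodd, L, hL, F, i, j, ⟨e⟩, h5 | ⟨m, hm, hF, hord⟩⟩ :=
        JankoWard.ward G inferInstance hG S h8 hE hJ t ht
      · exact Or.inr (AbelTwo.j1_of_five S hS h8 ht hL h5 e).1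
      · exact (ree_not_ti hG S h8 hE ht hodd hL hm hF e hord hti).elim
  · haveI := CentSix.Cfg.isPerfect hG
    obtain ⟨z, hz⟩ := exists_prime_orderOf_dvd_card' (G := G) 2 h2
    let e0 : G ⧸ Cfsg.oddCore G ≃* G :=
      (QuotientGroup.quotientMulEquivOfEq (CentSix.Cfg.oddCore_eq_bot hz)).trans QuotientGroup.quotientBot
    rcases Cfsg.Agent.S0483.result S n hn hS with ⟨F, i, j, -, h3, ⟨e⟩⟩ | ⟨e⟩
    · exact Or.inl ⟨F, i, j, h3, ⟨e0.symm.trans e⟩⟩
    · exact absurd hti (not_ti_seven (e0.symm.trans (_root_.Classical.choice (show Nonempty _ from e))))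

/-- The classification. -/
theorem classification [IsSimpleGroup G] (hG : ¬ IsMulCommutative G) :
    (∀ H : Subgroup G, IsCyclic H → IsPrimePow (Nat.card H) →
      (∀ g : G, (H).map (MulAut.conj g).toMonoidHom = H ∨ (H).map (MulAut.conj g).toMonoidHom ⊓ H = ⊥)) ↔
    ((∃ (F : Type) (_ : Field F) (_ : Fintype F), 3 < Fintype.card F ∧
      Nonempty (G ≃* Matrix.ProjectiveSpecialLinearGroup (Fin 2) F)) ∨ Cfsg.Spor.IsoJ1 G) := by
  refine ⟨fun h => models_of_ti hG (ti_of_hyp h), ?_⟩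
  rintro (⟨F, i, j, -, ⟨e⟩⟩ | ⟨⟨e⟩⟩)
  · exact hyp_of_full (full_of_equiv e full_psl)
  · exact hyp_of_full (full_of_equiv e full_j)

end Cfsg.Agent.Invol.CycTI
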