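import Cfsg.Agent.Lib.Invol.CycTI.Square
import Cfsg.Agent.S0111
import Cfsg.Agent.Lib.Invol.Dihedral

/-!
An involution inverting a root of a central square forces a dihedral Sylow 2-subgroup.
-/

set_option autoImplicit false
set_option linter.unusedSectionVars false
set_option linter.style.haveILetI false

universe u

namespace Cfsg.Agent.Invol.CycTI

open Subgroup
open scoped commutatorElement

variable {G : Type u} [Group G] [Finite G]

/-- A root of a central square in `P` with an involution of `P` inverting it. -/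
structure Inv (P : Sylow 2 G) (x z t : G) : Prop where
  xP : x ∈ (P : Subgroup G)
  sq : Sq x z
  cen : Cen P z
  tP : t ∈ (P : Subgroup G)
  two : orderOf t = 2
  inv : t * x * t⁻¹ = x⁻¹

/-- Move a `2`-subgroup centralising `e` into `P`, for `e` central in `P`. -/
theorem move_into (P : Sylow 2 G) {e : G} (he : Cen P e) {V : Subgroup G} (hV : IsPGroup 2 V)
    (hVe : ∀ v ∈ V, Commute v e) :
    ∃ c : G, Commute c e ∧ ∀ v ∈ V, c * v * c⁻¹ ∈ (P : Subgroup G) := by
  haveI := Fact.mk Nat.prime_two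
  set C := centralizer ({e} : Set G)
  have hPC : (P : Subgroup G) ≤ C := fun p hp => mem_centralizer_singleton_iff.2 (he p hp).eq
  have hVC : V ≤ C := fun v hv => mem_centralizer_singleton_iff.2 (hVe v hv).eq
  obtain ⟨Q, hQ⟩ := (hV.of_equiv (subgroupOfEquivOfLe hVC).symm).exists_le_sylow
  obtain ⟨c, hc⟩ := MulAction.exists_smul_eq C Q (P.subtype hPC)
  refine ⟨c, mem_centralizer_singleton_iff.1 c.2, fun v hv => ?_⟩
  have h1 : c * ⟨v, hVC hv⟩ * c⁻¹ ∈ (P : Subgroup G).subgroupOf C := by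
    rw [← show (P.subtype hPC : Subgroup C) = (P : Subgroup G).subgroupOf C from rfl, ← hc]
    exact ⟨_, hQ (mem_subgroupOf.2 hv), rfl⟩
  exact h1

namespace Inv

variable {P : Sylow 2 G} {x z t : G} (D : Inv P x z t)
include D

theorem z_mem : z ∈ (P : Subgroup G) := D.sq.sq ▸ mul_mem D.xP D.xP

theorem not_both {p : G} (h : p * x * p⁻¹ = x⁻¹) : ¬ Commute p x := fun hc =>
  D.sq.inv_ne (h ▸ mul_inv_eq_iff_eq_mul.2 hc.eq)

theorem inv_mul_inv {p q : G} (hp : p * x * p⁻¹ = x⁻¹) (hq : q * x * q⁻¹ = x⁻¹) : Commute (p * q) x := by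
  refine mul_inv_eq_iff_eq_mul.1 ?_
  calc p * q * x * (p * q)⁻¹ = p * (q * x * q⁻¹) * p⁻¹ := by group
    _ = x := by rw [hq, ← conj_inv, hp, inv_inv]

theorem inv_mul_comm {p q : G} (hp : p * x * p⁻¹ = x⁻¹) (hq : Commute q x) :
    p * q * x * (p * q)⁻¹ = x⁻¹ := by
  calc p * q * x * (p * q)⁻¹ = p * (q * x * q⁻¹) * p⁻¹ := by group
    _ = x⁻¹ := by rw [hq.eq, mul_inv_cancel_right, hp]

variable (hti : Ti G)
include hti

theorem dichotomy {p : G} (hp : p ∈ (P : Subgroup G)) : Commute p x ∨ p * x * p⁻¹ = x⁻¹ :=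
  (conj_root hti D.sq (D.cen p hp)).imp mul_inv_eq_iff_eq_mul.1 id

variable [IsSimpleGroup G] (hna : ¬ IsMulCommutative G)
include hna

theorem t_comm {e : G} (he : e ∈ (P : Subgroup G)) (h2 : e * e = 1) (hex : Commute e x) : Commute t e := by
  have hr : Sq (x * e) z := root_mul hti D.sq h2 hex.symm
  rcases conj_root hti hr (D.cen t D.tP) with f | f
  · exfalso
    rw [← conj_mul, D.inv, inv_mul_eq_iff_eq_mul, ← mul_assoc, D.sq.sq] at f
    have hte : Sq (t * e) z := ⟨by
      calc t * e * (t * e) = (t * e * t⁻¹) * (t * t) * e := by group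
        _ = z := by rw [f, mul_self D.two, mul_one, mul_assoc, h2, mul_one], D.sq.two⟩
    have h := root_commute hti hna P D.sq D.cen (mul_mem D.tP he) hte
    exact D.not_both (D.inv_mul_comm D.inv hex) h
  · rw [← conj_mul, D.inv, _root_.mul_inv_rev, inv_eq_of_mul_eq_one_right h2, hex.inv_right.eq] at f
    exact mul_inv_eq_iff_eq_mul.1 (mul_left_cancel f)

/-- The elements inverting `x` are involutions. -/
theorem invol_out {g : G} (hg : g ∈ (P : Subgroup G)) (hgx : g * x * g⁻¹ = x⁻¹) : g * g = 1 := by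
  by_contra h2
  obtain ⟨k, hk, hko⟩ := ord_ge P hg h2
  have ht := top_power hk hko
  set r := g ^ 2 ^ (k - 2) with hr
  have hrP : r ∈ (P : Subgroup G) := pow_mem hg _
  have hrx : Commute r x := root_commute hti hna P D.sq D.cen hrP ht
  have hgr : Commute g r := Commute.self_pow g _
  have htop : g ^ 2 ^ (k - 1) = z := by
    refine top_unique (by omega) hko D.sq.two ?_
    have hix : Commute x (g ^ 2 ^ (k - 1)) := by
      rw [← ht.sq]; exact hrx.symm.mul_right hrx.symm
    have h1 : x * g * x⁻¹ ∈ zpowers g := hti g x 2 k _ Nat.prime_two hko (ne_one_of_two ht.two) hix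
    have h3 : g⁻¹ * x * g = x⁻¹ := by
      rw [show g⁻¹ * x * g = (g⁻¹ * (g * x * g⁻¹) * g)⁻¹ by rw [hgx]; group]
      group
    have h4 : x * g * x⁻¹ = g * z := by
      calc x * g * x⁻¹ = g * ((g⁻¹ * x * g) * x⁻¹) := by group
        _ = g * z := by rw [h3, ← D.sq.inv.sq]
    rw [h4] at h1
    simpa using mul_mem (inv_mem (mem_zpowers g)) h1
  have hrz : Sq r z := ⟨by rw [← htop]; exact ht.sq, D.sq.two⟩
  set e := x⁻¹ * r with he
  have heP : e ∈ (P : Subgroup G) := mul_mem (inv_mem D.xP) hrP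
  have hee : e * e = 1 := by
    rw [he, (hrx.inv_right).mul_mul_mul_comm x⁻¹ r, D.sq.inv.sq, hrz.sq, mul_self D.sq.two]
  have hex : Commute e x := ((Commute.refl x).inv_left).mul_left hrx
  have hge : g * e * g⁻¹ = z * e := by
    rw [he, ← conj_mul, ← conj_inv, hgx, inv_inv, hgr.eq, mul_inv_cancel_right, ← D.sq.sq]
    group
  have hte : Commute t e := D.t_comm hti hna heP hee hex
  have htr : t * r * t⁻¹ = r⁻¹ := by
    rw [show r = x * e by rw [he]; group, ← conj_mul, D.inv, hte.eq, mul_inv_cancel_right, _root_.mul_inv_rev,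
      inv_eq_of_mul_eq_one_right hee, hex.inv_right.eq]
  -- the action of `t` on `⟨g⟩`
  obtain ⟨j, hj⟩ := mem_zpowers_iff.1 (hti g t 2 k (2 ^ (k - 1)) Nat.prime_two hko
    (ne_one_of_two ht.two) (by rw [htop]; exact D.cen t D.tP))
  have hj4 : ((4 : ℕ) : ℤ) ∣ j + 1 := by
    rw [show (4 : ℕ) = 2 ^ 2 from rfl, ← hrz.ord, orderOf_dvd_iff_zpow_eq_one, zpow_add, zpow_one,
      mul_eq_one_iff_eq_inv, ← htr, hr, ← conj_pow, ← hj, ← zpow_natCast, ← zpow_natCast, ← zpow_mul, ← zpow_mul,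
      mul_comm]
  have hj2 : g ^ (j * j) = g := by
    have htt := mul_self D.two
    calc g ^ (j * j) = (t * g * t⁻¹) ^ j := by rw [← hj, zpow_mul]
      _ = t * (t * g * t⁻¹) * t⁻¹ := by rw [conj_zpow, hj]
      _ = t * t * g * (t * t)⁻¹ := by group
      _ = g := by rw [htt, one_mul, inv_one, mul_one]
  obtain ⟨d, hd⟩ := hj4
  push_cast at hd
  have hw2 : g ^ (j + 1) * g ^ (j + 1) = 1 := by
    rw [← zpow_add, hd]
    have h1 : ((2 : ℤ) ^ k) ∣ (4 * d + 4 * d) * (2 * d - 1) := by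
      have hz0 : ((2 ^ k : ℕ) : ℤ) ∣ j * j - 1 := by
        rw [← hko, orderOf_dvd_iff_zpow_eq_one, zpow_sub, hj2, zpow_one, mul_inv_cancel]
      push_cast at hz0
      rwa [show j = 4 * d - 1 by omega, show (4 * d - 1) * (4 * d - 1) - 1 = (4 * d + 4 * d) * (2 * d - 1) by ring] at hz0
    refine orderOf_dvd_iff_zpow_eq_one.1 ?_
    rw [hko]
    push_cast
    exact (((Int.isCoprime_iff_gcd_eq_one).2 (by
      rw [Int.gcd_comm]
      simp [Int.gcd, show (2 : ℤ).natAbs = 2 from rfl, Int.natAbs_odd.2 (show Odd (2 * d - 1) from ⟨d - 1, by ring⟩)]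
      ) : IsCoprime (2 : ℤ) (2 * d - 1)).pow_left).dvd_of_dvd_mul_right h1
  -- a root `u g`
  obtain ⟨u, huP, huu, hur, hug⟩ : ∃ u : G, u ∈ (P : Subgroup G) ∧ u * u = 1 ∧ u * r * u⁻¹ = r⁻¹ ∧
      u * g * (u * g) = z := by
    have htg : t * g * (t * g) = g ^ (j + 1) := by
      rw [zpow_add, zpow_one, hj]
      calc t * g * (t * g) = t * g * t⁻¹ * (t * t) * g := by group
        _ = t * g * t⁻¹ * g := by rw [mul_self D.two, mul_one]
    by_cases hw : g ^ (j + 1) = 1
    · refine ⟨t * e, mul_mem D.tP heP, ?_, ?_, ?_⟩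
      · rw [hte.symm.mul_mul_mul_comm t e, mul_self D.two, hee, one_mul]
      · rw [show t * e * r * (t * e)⁻¹ = t * (e * r * e⁻¹) * t⁻¹ by group,
          (show Commute e r from (hrx.inv_right.symm).mul_left (Commute.refl r)).eq, mul_inv_cancel_right, htr]
      · have hgeq : e * g = z * (g * e) := by
          calc e * g = z * (z * e) * g := by rw [← mul_assoc z z e, mul_self D.sq.two, one_mul]
            _ = z * (g * e * g⁻¹) * g := by rw [hge]
            _ = z * (g * e) := by group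
        have hte' : e * (t * e) = t := by rw [hte.eq, ← mul_assoc, hee, one_mul]
        calc t * e * g * (t * e * g) = t * (e * g) * (t * e * g) := by group
          _ = t * z * g * (e * (t * e)) * g := by rw [hgeq]; group
          _ = z * (t * g * (t * g)) := by rw [hte', (D.cen t D.tP).eq]; group
          _ = z := by rw [htg, hw, mul_one]
    · refine ⟨t, D.tP, mul_self D.two, htr, ?_⟩
      rw [htg]
      refine (top_unique (by omega) hko (orderOf_eq_prime (by rw [pow_two]; exact hw2) hw)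
        (zpow_mem (mem_zpowers g) _)).symm.trans htop
  have hy : Sq (u * g) z := ⟨hug, D.sq.two⟩
  have hui := inv_eq_of_mul_eq_one_right huu
  have hval : u * (u * g) * u⁻¹ = g * u := by rw [← mul_assoc, huu, one_mul, hui]
  rcases conj_root hti hy (D.cen u huP) with f | f <;> rw [hval] at f
  · have hc : Commute u g := f.symm
    have h1 : Commute u r := hc.pow_right _
    rw [h1.eq, mul_inv_cancel_right] at hur
    exact hrz.inv_ne hur.symm
  · rw [_root_.mul_inv_rev, hui] at f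
    exact h2 (by
      have h5 : g = g⁻¹ := mul_right_cancel f
      nth_rewrite 1 [h5]
      exact inv_mul_cancel g)

theorem t_inv {a : G} (ha : a ∈ (P : Subgroup G)) (hax : Commute a x) {u : G} (hu : u ∈ (P : Subgroup G))
    (hux : u * x * u⁻¹ = x⁻¹) : u * a * u⁻¹ = a⁻¹ := by
  have h1 := D.invol_out hti hna (mul_mem hu ha) (D.inv_mul_comm hux hax)
  have h2 := inv_eq_of_mul_eq_one_right (D.invol_out hti hna hu hux)
  rw [h2]
  calc u * a * u = u * a * (u * a) * a⁻¹ := by group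
    _ = a⁻¹ := by rw [h1, one_mul]

theorem comm_in {a b : G} (ha : a ∈ (P : Subgroup G)) (hax : Commute a x) (hb : b ∈ (P : Subgroup G))
    (hbx : Commute b x) : Commute a b := by
  have h := D.t_inv hti hna (mul_mem ha hb) (hax.mul_left hbx) D.tP D.inv
  rw [← conj_mul, D.t_inv hti hna ha hax D.tP D.inv, D.t_inv hti hna hb hbx D.tP D.inv, ← _root_.mul_inv_rev] at h
  exact (inv_injective h).symm

/-- The involutions centralising `x` are central in `P`. -/
theorem cen_of_comm {e : G} (he : e ∈ (P : Subgroup G)) (h2 : e * e = 1) (hex : Commute e x) : Cen P e := by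
  intro p hp
  rcases D.dichotomy hti hp with h | h
  · exact D.comm_in hti hna hp h he hex
  · have h1 := D.t_inv hti hna he hex hp h
    rw [inv_eq_of_mul_eq_one_right h2] at h1
    exact mul_inv_eq_iff_eq_mul.1 h1

theorem cen_square {r j : G} (hr : r ∈ (P : Subgroup G)) (h : Sq r j) : Cen P j :=
  D.cen_of_comm hti hna (h.sq ▸ mul_mem hr hr) (mul_self h.two)
    (h.sq ▸ (root_commute hti hna P D.sq D.cen hr h).mul_left (root_commute hti hna P D.sq D.cen hr h))

/-- A root of a central square lying in the centraliser is in `P`. -/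
theorem root_mem {r j : G} (hj : Cen P j) (h : Sq r j) : r ∈ (P : Subgroup G) := by
  haveI := Fact.mk Nat.prime_two
  obtain ⟨c, hc, hcV⟩ := move_into P hj (V := zpowers r) (IsPGroup.of_card (n := 2) (by rw [Nat.card_zpowers, h.ord]))
    fun v hv => by obtain ⟨i, rfl⟩ := mem_zpowers_iff.1 hv; exact h.comm_self.zpow_left i
  have h1 := hcV r (mem_zpowers r)
  rcases conj_root hti h hc with e | e <;> rw [e] at h1
  · exact h1
  · exact inv_mem_iff.1 h1

/-- Every coset of involutions contains a conjugate of `z`. -/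
theorem exists_conj_z {u : G} (hu : u ∈ (P : Subgroup G)) (hux : u * x * u⁻¹ = x⁻¹) :
    ∃ g e₀ : G, e₀ ∈ (P : Subgroup G) ∧ e₀ * e₀ = 1 ∧ Commute e₀ x ∧ g * z * g⁻¹ = u * e₀ := by
  haveI := Fact.mk Nat.prime_two
  set S₀ : Subgroup G := (P : Subgroup G) ⊓ centralizer ({x} : Set G) with hS₀
  have hmem : ∀ {p : G}, p ∈ S₀ ↔ p ∈ (P : Subgroup G) ∧ Commute p x := fun {p} => by
    rw [hS₀, mem_inf, mem_centralizer_singleton_iff]; rfl
  have huu := D.invol_out hti hna hu hux
  have hu2 : orderOf u = 2 := orderOf_eq_prime (by rw [pow_two, huu]) fun e => D.sq.inv_ne (by simpa [e] using hux.symm)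
  have hidx : ∀ (K : Subgroup G) (v : G), K ≤ (P : Subgroup G) → v ∈ K → v * x * v⁻¹ = x⁻¹ →
      ((K ⊓ centralizer ({x} : Set G)).subgroupOf K).index = 2 := by
    intro K v hKP hvK hvx
    refine index_eq_two_iff.2 ⟨⟨v, hvK⟩, fun b => ?_⟩
    simp only [mem_subgroupOf, mem_inf, SetLike.coe_mem, true_and, coe_mul, mul_mem b.2 hvK,
      mem_centralizer_singleton_iff]
    rcases D.dichotomy hti (hKP b.2) with h | h
    · refine Or.inr ⟨h, fun hc => D.not_both hvx ?_⟩
      have := h.inv_left.mul_left (show Commute ((b : G) * v) x from hc)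
      rwa [inv_mul_cancel_left] at this
    · exact Or.inl ⟨D.inv_mul_inv h hvx, fun hc => D.not_both h hc⟩
  rcases Cfsg.Agent.S0111.result P S₀ inf_le_left (hidx _ t le_rfl D.tP D.inv) u hu2 hu
    (fun h => D.not_both hux (hmem.1 h).2) with ⟨M, hM, hM2, -⟩ | ⟨g, hg⟩
  · exfalso
    rcases hM.eq_bot_or_eq_top with h | h
    · rw [h, index_bot] at hM2
      haveI := isCyclic_of_prime_card (α := G) hM2
      exact hna IsCyclic.commutative
    · rw [h, index_top] at hM2; omega
  set e := g * u * g⁻¹ with he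
  obtain ⟨heP, hex⟩ := hmem.1 hg
  have hee : e * e = 1 := by rw [he, conj_mul, huu]; group
  have hecen := D.cen_of_comm hti hna heP hee hex
  set V := (P : Subgroup G) ⊓ centralizer ({u} : Set G) with hV
  have hVmem : ∀ {p : G}, p ∈ V ↔ p ∈ (P : Subgroup G) ∧ Commute p u := fun {p} => by
    rw [hV, mem_inf, mem_centralizer_singleton_iff]; rfl
  obtain ⟨c, hce, hcV⟩ := move_into P hecen (V := V.map (MulAut.conj g).toMonoidHom)
    ((P.isPGroup'.to_le (inf_le_left : V ≤ _)).map _) (by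
      rintro _ ⟨p, hp, rfl⟩
      exact ((hVmem.1 hp).2.map (MulAut.conj g).toMonoidHom))
  set h := c * g with hh
  have hhV : ∀ p ∈ V, h * p * h⁻¹ ∈ (P : Subgroup G) := fun p hp => by
    rw [show h * p * h⁻¹ = c * (g * p * g⁻¹) * c⁻¹ by rw [hh]; group]
    exact hcV _ ⟨p, hp, rfl⟩
  have hhu : h * u * h⁻¹ = e := by
    rw [show h * u * h⁻¹ = c * (g * u * g⁻¹) * c⁻¹ by rw [hh]; group, ← he, hce.eq, mul_inv_cancel_right]
  have hzV : z ∈ V := hVmem.2 ⟨D.z_mem, (D.cen u hu).symm⟩
  set z' := h * z * h⁻¹ with hz'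
  have hz'P : z' ∈ (P : Subgroup G) := hhV z hzV
  have hz'x : z' * x * z'⁻¹ = x⁻¹ := by
    refine (D.dichotomy hti hz'P).resolve_left fun hc' => ?_
    have hcen' := D.cen_of_comm hti hna hz'P (mul_self (conj_two h D.sq.two)) hc'
    have hr := D.sq.conj h
    have hrP := D.root_mem hti hna hcen' hr
    have h1 : Commute e (h * x * h⁻¹) :=
      D.comm_in hti hna heP hex hrP (root_commute hti hna P D.sq D.cen hrP hr)
    refine D.not_both hux (Commute.of_map (f := (MulAut.conj h).toMonoidHom) (MulAut.conj h).injective ?_)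
    simpa [hhu] using h1
  set K := V.map (MulAut.conj h).toMonoidHom with hK
  have hKP : K ≤ (P : Subgroup G) := by rintro _ ⟨p, hp, rfl⟩; exact hhV p hp
  have hVsq : ∀ p ∈ V, p * p = 1 := by
    intro p hp
    obtain ⟨hpP, hpu⟩ := hVmem.1 hp
    rcases D.dichotomy hti hpP with hpx | hpx
    · have h1 := D.t_inv hti hna hpP hpx hu hux
      rw [← hpu.eq, mul_inv_cancel_right] at h1
      exact mul_eq_one_iff_eq_inv.2 h1
    · exact D.invol_out hti hna hpP hpx
  set E₀ := K ⊓ centralizer ({x} : Set G) with hE₀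
  set E₁ := V ⊓ centralizer ({x} : Set G) with hE₁
  have hle : E₀ ≤ E₁ := by
    intro p hp
    have hpP := hKP hp.1
    have hpx : Commute p x := mem_centralizer_singleton_iff.1 hp.2
    have hp2 : p * p = 1 := by
      obtain ⟨q, hq, rfl⟩ := hp.1
      rw [← map_mul, hVsq q hq, map_one]
    exact ⟨hVmem.2 ⟨hpP, ((D.cen_of_comm hti hna hpP hp2 hpx) u hu).symm⟩, hp.2⟩
  have hcard : Nat.card ↥E₀ = Nat.card ↥E₁ := by
    have h0 := card_mul_index (E₀.subgroupOf K)
    have h1 := card_mul_index (E₁.subgroupOf V)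
    rw [hidx K z' hKP ⟨z, hzV, rfl⟩ hz'x, Nat.card_congr (subgroupOfEquivOfLe inf_le_left).toEquiv, hK,
      card_map_of_injective (MulAut.conj h).injective] at h0
    rw [hidx V u inf_le_left (hVmem.2 ⟨hu, Commute.refl u⟩) hux,
      Nat.card_congr (subgroupOfEquivOfLe inf_le_left).toEquiv] at h1
    rw [hE₀, hE₁, hK]
    omega
  have hzK : z ∈ K := by
    have h1 : z ∈ E₁ := ⟨hzV, mem_centralizer_singleton_iff.2 D.sq.comm_self.symm.eq⟩
    rw [← eq_of_le_of_card_ge hle hcard.ge] at h1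
    exact h1.1
  obtain ⟨u₀, hu₀, hu₀z⟩ := hzK
  obtain ⟨hu₀P, hu₀u⟩ := hVmem.1 hu₀
  have hu₀eq : h⁻¹ * z * h = u₀ := by
    rw [← hu₀z]; show h⁻¹ * (h * u₀ * h⁻¹) * h = u₀; group
  have hu₀x : u₀ * x * u₀⁻¹ = x⁻¹ := by
    refine (D.dichotomy hti hu₀P).resolve_left fun hc' => ?_
    have hr : Sq (h⁻¹ * x * h) u₀ := hu₀eq ▸ (by simpa using D.sq.conj h⁻¹)
    have hrP := D.root_mem hti hna (D.cen_of_comm hti hna hu₀P (hVsq u₀ hu₀) hc') hr
    have h2 := D.t_inv hti hna hrP (root_commute hti hna P D.sq D.cen hrP hr) hu hux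
    have h3 : Commute u (h⁻¹ * x * h) := by
      have h4 : Commute (h * u * h⁻¹) x := hhu.symm ▸ hex
      simpa [mul_assoc] using h4.map (MulAut.conj h⁻¹).toMonoidHom
    rw [h3.eq, mul_inv_cancel_right] at h2
    exact hr.inv_ne h2.symm
  refine ⟨h⁻¹, u * u₀, mul_mem hu hu₀P, ?_, D.inv_mul_inv hux hu₀x, ?_⟩
  · rw [hu₀u.mul_mul_mul_comm u u₀, huu, hVsq u₀ hu₀, one_mul]
  · rw [inv_inv, hu₀eq, ← mul_assoc, huu, one_mul]

end Inv

end Cfsg.Agent.Invol.CycTI
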