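import Cfsg.Agent.Lib.Invol.CycTI.Basic

/-!
Square involutions in a Sylow 2-subgroup of a simple group with TI cyclic subgroups: either the Sylow subgroup is
abelian, or some involution inverts a root of a central square.
-/

set_option autoImplicit false
set_option linter.unusedSectionVars false
set_option linter.style.haveILetI false

universe u

namespace Cfsg.Agent.Invol.CycTI

open Subgroup

variable {G : Type u} [Group G] [Finite G]

/-- `z` commutes with every element of `P`. -/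
def Cen (P : Sylow 2 G) (z : G) : Prop := ∀ p ∈ (P : Subgroup G), Commute p z

omit [Finite G] in
/-- The involution on top of a `2`-element. -/
theorem top_power {g : G} {k : ℕ} (hk : 2 ≤ k) (hg : orderOf g = 2 ^ k) :
    Sq (g ^ 2 ^ (k - 2)) (g ^ 2 ^ (k - 1)) := by
  refine ⟨?_, ?_⟩
  · rw [← pow_add, ← two_mul, ← pow_succ', show k - 2 + 1 = k - 1 by omega]
  · refine orderOf_eq_prime ?_ (pow_ne_one_of_lt_orderOf (by positivity) ?_)
    · rw [← pow_mul, ← pow_succ, show k - 1 + 1 = k by omega, ← hg, pow_orderOf_eq_one]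
    · rw [hg]; exact Nat.pow_lt_pow_right one_lt_two (by omega)

/-- Elements of `P` have two-power order. -/
theorem exists_ord (P : Sylow 2 G) {g : G} (hg : g ∈ (P : Subgroup G)) : ∃ k, orderOf g = 2 ^ k := by
  haveI := Fact.mk Nat.prime_two
  obtain ⟨k, hk⟩ := IsPGroup.iff_orderOf.1 P.isPGroup' ⟨g, hg⟩
  exact ⟨k, by rwa [Subgroup.orderOf_mk] at hk⟩

theorem ord_ge (P : Sylow 2 G) {g : G} (hg : g ∈ (P : Subgroup G)) (h : g * g ≠ 1) :
    ∃ k, 2 ≤ k ∧ orderOf g = 2 ^ k := by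
  obtain ⟨k, hk⟩ := exists_ord P hg
  refine ⟨k, ?_, hk⟩
  by_contra hlt
  refine h ?_
  rw [← pow_two, ← orderOf_dvd_iff_pow_eq_one, hk]
  exact (pow_dvd_pow 2 (by omega : k ≤ 1)).trans (by norm_num)

omit [Finite G] in
theorem conj_two {z : G} (g : G) (h : orderOf z = 2) : orderOf (g * z * g⁻¹) = 2 := by
  rw [show g * z * g⁻¹ = MulAut.conj g z from rfl, MulEquiv.orderOf_eq, h]

omit [Finite G] in
/-- The only involution of `⟨g⟩`. -/
theorem top_unique {g c : G} {k : ℕ} (hk : 1 ≤ k) (hg : orderOf g = 2 ^ k) (hc : orderOf c = 2)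
    (hcg : c ∈ zpowers g) : g ^ 2 ^ (k - 1) = c := by
  obtain ⟨i, hi⟩ := mem_zpowers_iff.1 hcg
  have ht : g ^ 2 ^ (k - 1) * g ^ 2 ^ (k - 1) = 1 := by
    rw [← pow_add, ← two_mul, ← pow_succ', show k - 1 + 1 = k by omega, ← hg, pow_orderOf_eq_one]
  have h4 : ((2 ^ k : ℕ) : ℤ) ∣ i * 2 := by
    rw [← hg, orderOf_dvd_iff_zpow_eq_one, zpow_mul, hi, zpow_two, mul_self hc]
  rw [show k = (k - 1) + 1 by omega, pow_succ] at h4
  push_cast at h4
  obtain ⟨d, rfl⟩ : ((2 : ℤ) ^ (k - 1)) ∣ i := Int.dvd_of_mul_dvd_mul_right two_ne_zero h4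
  rw [zpow_mul, show ((2 : ℤ) ^ (k - 1)) = ((2 ^ (k - 1) : ℕ) : ℤ) by push_cast; rfl, zpow_natCast] at hi
  obtain ⟨e, rfl | rfl⟩ := Int.even_or_odd' d
  · rw [zpow_mul, zpow_two, ht, one_zpow] at hi
    exact absurd hi.symm (ne_one_of_two hc)
  · rwa [zpow_add, zpow_mul, zpow_two, ht, one_zpow, one_mul, zpow_one] at hi

variable (hti : Ti G)
include hti

omit [Finite G] in
theorem root_mul {x z e : G} (h : Sq x z) (he : e * e = 1) (hc : Commute x e) : Sq (x * e) z :=
  ⟨by rw [hc.symm.mul_mul_mul_comm x e, h.sq, he, mul_one], h.two⟩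

section Simple

variable [IsSimpleGroup G] (hna : ¬ IsMulCommutative G)
include hna

theorem root_commute (P : Sylow 2 G) {x z r i : G} (hx : Sq x z) (hz : Cen P z) (hrP : r ∈ (P : Subgroup G))
    (hr : Sq r i) : Commute r x := by
  by_cases hiz : i = z
  · subst hiz; exact roots_comm hti hna hr hx
  have h1 : i * x * i⁻¹ = x := by
    rw [← hr.sq, show r * r * x * (r * r)⁻¹ = r * (r * x * r⁻¹) * r⁻¹ by group]
    rcases conj_root hti hx (hz r hrP) with e | e
    · rw [e, e]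
    · rw [e, ← conj_inv, e, inv_inv]
  exact (commute_roots hti hx hr (Ne.symm hiz) (mul_inv_eq_iff_eq_mul.1 h1 : Commute i x).symm).symm

theorem invols_commute {x z e f : G} (hx : Sq x z) (he : e * e = 1) (hf : f * f = 1) (hce : Commute x e)
    (hcf : Commute x f) : Commute e f := by
  have h1 : x * x * (e * f) = x * x * (f * e) := by
    calc x * x * (e * f) = x * e * (x * f) := (hce.symm.mul_mul_mul_comm x f).symm
      _ = x * f * (x * e) := (roots_comm hti hna (root_mul hti hx he hce) (root_mul hti hx hf hcf)).eq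
      _ = x * x * (f * e) := hcf.symm.mul_mul_mul_comm x e
  exact mul_left_cancel h1

end Simple

/-- A square involution that is not central gives a square involution with a larger centraliser. -/
theorem step (P : Sylow 2 G) {x z : G} (hxP : x ∈ (P : Subgroup G)) (h : Sq x z) (hz : ¬ Cen P z) :
    ∃ s ∈ (P : Subgroup G), s * z * s⁻¹ ≠ z ∧ Commute x (s * x * s⁻¹) ∧ Commute (s * s) z ∧
      Nat.card ↥((P : Subgroup G) ⊓ centralizer ({z} : Set G)) <
        Nat.card ↥((P : Subgroup G) ⊓ centralizer ({z * (s * z * s⁻¹)} : Set G)) := by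
  classical
  haveI := Fact.mk Nat.prime_two
  set T : Subgroup ↥(P : Subgroup G) := (centralizer ({z} : Set G)).subgroupOf (P : Subgroup G) with hT
  have hmem : ∀ {p : ↥(P : Subgroup G)}, p ∈ T ↔ Commute (p : G) z := fun {p} => by
    rw [hT, mem_subgroupOf, mem_centralizer_singleton_iff]; rfl
  have hTtop : T < ⊤ := lt_top_iff_ne_top.2 fun e => hz fun p hp =>
    hmem.1 (e ▸ mem_top (⟨p, hp⟩ : ↥(P : Subgroup G)))
  haveI : Group.IsNilpotent ↥(P : Subgroup G) := P.isPGroup'.isNilpotent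
  obtain ⟨g, hgN, hgT⟩ := SetLike.exists_of_lt (Group.normalizerCondition_of_isNilpotent T hTtop)
  obtain ⟨k, hk⟩ := IsPGroup.iff_orderOf.1 P.isPGroup' g
  have hex : ∃ i, g ^ 2 ^ i ∈ T := ⟨k, by rw [← hk, pow_orderOf_eq_one]; exact one_mem T⟩
  have hi0 : Nat.find hex ≠ 0 := fun e => hgT (by simpa [e] using Nat.find_spec hex)
  set s := g ^ 2 ^ (Nat.find hex - 1) with hs
  have hsT : s ∉ T := Nat.find_min hex (by omega)
  have hs2 : s * s ∈ T := by
    rw [hs, ← pow_add, ← two_mul, ← pow_succ', show Nat.find hex - 1 + 1 = Nat.find hex by omega]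
    exact Nat.find_spec hex
  have hsN : s ∈ normalizer (T : Set ↥(P : Subgroup G)) := pow_mem hgN _
  have hne : (s : G) * z * (s : G)⁻¹ ≠ z := fun e => hsT (hmem.2 (mul_inv_eq_iff_eq_mul.1 e))
  have hTz' : ∀ p ∈ T, Commute (p : G) ((s : G) * z * (s : G)⁻¹) := by
    intro p hp
    have h1 : s⁻¹ * p * s ∈ T := by simpa using (mem_normalizer_iff.1 (inv_mem hsN) p).1 hp
    have h2 := hmem.1 h1
    simp only [coe_mul, coe_inv] at h2
    calc (p : G) * ((s : G) * z * (s : G)⁻¹) = (s : G) * ((s : G)⁻¹ * p * s * z) * (s : G)⁻¹ := by group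
      _ = (s : G) * z * (s : G)⁻¹ * p := by rw [h2.eq]; group
  have hcx : Commute x ((s : G) * x * (s : G)⁻¹) :=
    commute_roots hti h (h.conj (s : G)) (Ne.symm hne) (hTz' ⟨x, hxP⟩ (hmem.2 h.comm_self))
  refine ⟨s, s.2, hne, hcx, by simpa using hmem.1 hs2, ?_⟩
  refine lt_of_le_of_ne (Nat.le_of_dvd Nat.card_pos (card_dvd_of_le ?_)) fun e => ?_
  · intro p hp
    refine ⟨hp.1, mem_centralizer_singleton_iff.2 ?_⟩
    exact Commute.mul_right (mem_centralizer_singleton_iff.1 hp.2)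
      (hTz' ⟨p, hp.1⟩ (hmem.2 (mem_centralizer_singleton_iff.1 hp.2)))
  · have hle : (P : Subgroup G) ⊓ centralizer ({z} : Set G) ≤
        (P : Subgroup G) ⊓ centralizer ({z * ((s : G) * z * (s : G)⁻¹)} : Set G) := by
      intro p hp
      refine ⟨hp.1, mem_centralizer_singleton_iff.2 ?_⟩
      exact Commute.mul_right (mem_centralizer_singleton_iff.1 hp.2)
        (hTz' ⟨p, hp.1⟩ (hmem.2 (mem_centralizer_singleton_iff.1 hp.2)))
    refine hne ?_
    have hmem' : (s : G) ∈ (P : Subgroup G) ⊓ centralizer ({z * ((s : G) * z * (s : G)⁻¹)} : Set G) := by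
      refine ⟨s.2, mem_centralizer_singleton_iff.2 ?_⟩
      have h2 : ((s * s : ↥(P : Subgroup G)) : G) * z = z * ((s * s : ↥(P : Subgroup G)) : G) := (hmem.1 hs2).eq
      simp only [coe_mul] at h2
      have h3 : (s : G) * ((s : G) * z * (s : G)⁻¹) = z * (s : G) := by
        calc (s : G) * ((s : G) * z * (s : G)⁻¹) = (s : G) * (s : G) * z * (s : G)⁻¹ := by group
          _ = z * (s : G) := by rw [h2]; group
      have hzz : Commute z ((s : G) * z * (s : G)⁻¹) := by
        rw [← h.sq, show (s : G) * (x * x) * (s : G)⁻¹ = (s : G) * x * (s : G)⁻¹ * ((s : G) * x * (s : G)⁻¹) by group]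
        exact (hcx.mul_left hcx).mul_right (hcx.mul_left hcx)
      show (s : G) * (z * ((s : G) * z * (s : G)⁻¹)) = z * ((s : G) * z * (s : G)⁻¹) * (s : G)
      calc (s : G) * (z * ((s : G) * z * (s : G)⁻¹)) = (s : G) * ((s : G) * z * (s : G)⁻¹ * z) := by rw [hzz.eq]
        _ = z * (s : G) * z := by rw [← mul_assoc, h3]
        _ = z * ((s : G) * z * (s : G)⁻¹) * (s : G) := by group
    rw [← eq_of_le_of_card_ge hle e.ge] at hmem'
    exact mul_inv_eq_iff_eq_mul.2 (mem_centralizer_singleton_iff.1 hmem'.2)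

/-- A square gives a central square. -/
theorem exists_central (P : Sylow 2 G) {x z : G} (hxP : x ∈ (P : Subgroup G)) (h : Sq x z) :
    ∃ x' z', x' ∈ (P : Subgroup G) ∧ Sq x' z' ∧ Cen P z' := by
  obtain ⟨⟨x', z'⟩, ⟨hx', hs⟩, hmax⟩ := Set.exists_max_image {p : G × G | p.1 ∈ (P : Subgroup G) ∧ Sq p.1 p.2}
    (fun p => Nat.card ↥((P : Subgroup G) ⊓ centralizer ({p.2} : Set G))) (Set.toFinite _) ⟨(x, z), hxP, h⟩
  refine ⟨x', z', hx', hs, ?_⟩
  by_contra hc
  obtain ⟨s, hsP, hne, hcx, -, hlt⟩ := step hti P hx' hs hc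
  exact absurd (hmax (x' * (s * x' * s⁻¹), z' * (s * z' * s⁻¹))
    ⟨mul_mem hx' (mul_mem (mul_mem hsP hx') (inv_mem hsP)), hs.mul (hs.conj s) hcx (Ne.symm hne)⟩) (not_le.2 hlt)

section Simple

variable [IsSimpleGroup G] (hna : ¬ IsMulCommutative G)
include hna

/-- If all roots of central squares are central, the Sylow subgroup is abelian. -/
theorem abelian_of_central (P : Sylow 2 G)
    (hB : ∀ x z : G, x ∈ (P : Subgroup G) → Sq x z → Cen P z → Cen P x) :
    IsMulCommutative ↥(P : Subgroup G) := by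
  classical
  by_cases hel : ∀ g ∈ (P : Subgroup G), g * g = 1
  · exact ⟨⟨fun a b => Subtype.ext (by
      show (a : G) * b = b * a
      rw [← inv_eq_of_mul_eq_one_right (hel _ (mul_mem a.2 b.2)), _root_.mul_inv_rev,
        inv_eq_of_mul_eq_one_right (hel _ a.2), inv_eq_of_mul_eq_one_right (hel _ b.2)])⟩⟩
  push Not at hel
  -- every square is central
  have hsq : ∀ x z : G, x ∈ (P : Subgroup G) → Sq x z → Cen P z := by
    intro x z hxP h
    by_contra hc
    obtain ⟨⟨x', z'⟩, ⟨hx', hs, hcz⟩, hmax⟩ := Set.exists_max_image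
      {p : G × G | p.1 ∈ (P : Subgroup G) ∧ Sq p.1 p.2 ∧ ¬ Cen P p.2}
      (fun p => Nat.card ↥((P : Subgroup G) ⊓ centralizer ({p.2} : Set G))) (Set.toFinite _) ⟨(x, z), hxP, h, hc⟩
    dsimp only at hx' hs hcz
    obtain ⟨s, hsP, hne, hcx, hs2, hlt⟩ := step hti P hx' hs hcz
    set w := s * x' * s⁻¹ with hw
    have hwP : w ∈ (P : Subgroup G) := mul_mem (mul_mem hsP hx') (inv_mem hsP)
    have hY := hs.mul (hs.conj s) hcx (Ne.symm hne)
    have hcen : Cen P (z' * (s * z' * s⁻¹)) := by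
      by_contra hc'
      exact absurd (hmax (x' * w, z' * (s * z' * s⁻¹)) ⟨mul_mem hx' hwP, hY, hc'⟩) (not_le.2 hlt)
    have hY2 : Sq (x' * w⁻¹) (z' * (s * z' * s⁻¹)) := hs.mul (hs.conj s).inv hcx.inv_right (Ne.symm hne)
    have h1 : s * (x' * w) * s⁻¹ = x' * w :=
      mul_inv_eq_iff_eq_mul.2 (hB _ _ (mul_mem hx' hwP) hY hcen s hsP).eq
    have h2 : s * (x' * w⁻¹) * s⁻¹ = x' * w⁻¹ :=
      mul_inv_eq_iff_eq_mul.2 (hB _ _ (mul_mem hx' (inv_mem hwP)) hY2 hcen s hsP).eq
    rw [← conj_mul, ← hw] at h1 h2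
    rw [← conj_inv] at h2
    have h3 : s * w * s⁻¹ = x' := mul_left_cancel (h1.trans hcx.eq)
    rw [h3] at h2
    have h4 : x' * w⁻¹ = (x' * w⁻¹)⁻¹ := h2.symm.trans (by group)
    exact hY2.inv_ne h4.symm
  have hfour : ∀ x z : G, x ∈ (P : Subgroup G) → Sq x z → Cen P x := fun x z hx h => hB x z hx h (hsq x z hx h)
  obtain ⟨x, z, hxP, hx⟩ : ∃ x z, x ∈ (P : Subgroup G) ∧ Sq x z := by
    obtain ⟨g, hg, hg2⟩ := hel
    obtain ⟨k, hk, hko⟩ := ord_ge P hg hg2
    exact ⟨_, _, pow_mem hg _, top_power hk hko⟩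
  have hinv : ∀ e ∈ (P : Subgroup G), e * e = 1 → Cen P e := by
    intro e he h2 p hp
    have hce : Commute x e := (hfour x z hxP hx e he).symm
    have h := (hfour _ _ (mul_mem hxP he) (root_mul hti hx h2 hce) p hp)
    have h' : p * (x⁻¹ * (x * e)) = x⁻¹ * (x * e) * p := ((hfour x z hxP hx p hp).inv_right.mul_right h).eq
    rwa [inv_mul_cancel_left] at h'
  have hsmall : ∀ g ∈ (P : Subgroup G), orderOf g ∣ 4 → Cen P g := by
    intro g hg h4
    by_cases h2 : g * g = 1
    · exact hinv g hg h2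
    refine hfour g (g * g) hg ⟨rfl, orderOf_eq_prime ?_ h2⟩
    rw [← pow_two g, ← pow_mul]
    exact orderOf_dvd_iff_pow_eq_one.1 h4
  -- cyclic subgroups are normal
  have hnorm : ∀ g ∈ (P : Subgroup G), ∀ p ∈ (P : Subgroup G), p * g * p⁻¹ ∈ zpowers g := by
    intro g hg p hp
    by_cases h2 : g * g = 1
    · rw [(hinv g hg h2 p hp).eq, mul_inv_cancel_right]; exact mem_zpowers g
    obtain ⟨k, hk, hko⟩ := ord_ge P hg h2
    have ht := top_power hk hko
    exact hti g p 2 k (2 ^ (k - 1)) Nat.prime_two hko (ne_one_of_two ht.two) (hsq _ _ (pow_mem hg _) ht p hp)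
  suffices key : ∀ n, ∀ g ∈ (P : Subgroup G), ∀ h ∈ (P : Subgroup G), orderOf g + orderOf h = n → Commute g h from
    ⟨⟨fun a b => Subtype.ext (key _ a a.2 b b.2 rfl).eq⟩⟩
  intro n
  induction n using Nat.strong_induction_on with
  | _ n ih =>
  intro g hg h hh hn
  wlog hle : orderOf h ≤ orderOf g generalizing g h
  · exact (this h hh g hg ((add_comm _ _).trans hn) (le_of_not_ge hle)).symm
  by_contra hcom
  obtain ⟨m, hm⟩ := exists_ord P hg
  obtain ⟨k, hk⟩ := exists_ord P hh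
  have hk3 : 3 ≤ k := by
    by_contra hlt
    exact hcom (hsmall h hh (hk ▸ (pow_dvd_pow 2 (by omega : k ≤ 2))) g hg)
  have hkm : k ≤ m := (Nat.pow_le_pow_iff_right (by norm_num : 1 < 2)).1 (hk ▸ hm ▸ hle)
  set c := g * h * g⁻¹ * h⁻¹ with hc
  have hc1 : c ≠ 1 := fun e => hcom (mul_inv_eq_iff_eq_mul.1 (mul_inv_eq_one.1 e))
  have hcg : c ∈ zpowers g := by
    rw [hc, show g * h * g⁻¹ * h⁻¹ = g * (h * g * h⁻¹)⁻¹ by group]
    exact mul_mem (mem_zpowers g) (inv_mem (hnorm g hg h hh))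
  have hch : c ∈ zpowers h := mul_mem (hnorm h hh g hg) (inv_mem (mem_zpowers h))
  have hcgc : Commute g c := by
    obtain ⟨i, hi⟩ := mem_zpowers_iff.1 hcg; rw [← hi]; exact Commute.self_zpow g i
  have hchc : Commute h c := by
    obtain ⟨i, hi⟩ := mem_zpowers_iff.1 hch; rw [← hi]; exact Commute.self_zpow h i
  have hcP : c ∈ (P : Subgroup G) := mul_mem (mul_mem (mul_mem hg hh) (inv_mem hg)) (inv_mem hh)
  have hghc : g * h * g⁻¹ = c * h := by rw [hc, inv_mul_cancel_right]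
  -- the commutator is an involution
  have hg2 : Commute (g * g) h := by
    refine ih _ ?_ _ (mul_mem hg hg) h hh rfl
    rw [← hn, ← pow_two]
    refine Nat.add_lt_add_right ?_ _
    rw [orderOf_pow' g two_ne_zero, hm, show Nat.gcd (2 ^ m) 2 = 2 from Nat.gcd_eq_right (dvd_pow_self 2 (by omega))]
    exact Nat.div_lt_self (by positivity) one_lt_two
  have hc2 : c * c = 1 := by
    have h1 : g * (g * h * g⁻¹) * g⁻¹ = h := by
      rw [show g * (g * h * g⁻¹) * g⁻¹ = g * g * h * (g * g)⁻¹ by group, hg2.eq, mul_inv_cancel_right]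
    rw [hghc, ← conj_mul, hghc, hcgc.eq, mul_inv_cancel_right, ← mul_assoc] at h1
    exact mul_eq_right.1 h1
  have hco : orderOf c = 2 := orderOf_eq_prime (by rw [pow_two, hc2]) hc1
  have hgc : g ^ 2 ^ (m - 1) = c := top_unique (by omega) hm hco hcg
  have hhc : h ^ 2 ^ (k - 1) = c := top_unique (by omega) hk hco hch
  set j := g ^ 2 ^ (m - k) with hj
  have hjP : j ∈ (P : Subgroup G) := pow_mem hg _
  have hjk : j ^ 2 ^ (k - 1) = c := by
    rw [hj, ← pow_mul, ← pow_add, show m - k + (k - 1) = m - 1 by omega, hgc]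
  -- the commutator of `j` and `h`
  obtain ⟨c', hc'j, hc'h, hc'2, hjh⟩ : ∃ c', Commute j c' ∧ Commute h c' ∧ c' * c' = 1 ∧ j * h = c' * (h * j) := by
    rcases Nat.eq_zero_or_pos (m - k) with e | e
    · refine ⟨c, ?_, hchc, hc2, ?_⟩
      · rw [hj, e, pow_zero, pow_one]; exact hcgc
      · rw [hj, e, pow_zero, pow_one, ← mul_assoc, ← hghc, inv_mul_cancel_right]
    · refine ⟨1, Commute.one_right _, Commute.one_right _, mul_one 1, ?_⟩
      rw [one_mul, hj, show 2 ^ (m - k) = 2 * 2 ^ (m - k - 1) by rw [← pow_succ', show m - k - 1 + 1 = m - k by omega],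
        pow_mul, pow_two]
      exact (hg2.pow_left _).eq
  have hp : (h * j) ^ 4 = h ^ 4 * j ^ 4 := by
    have hsq : (h * j) ^ 2 = c' * (h ^ 2 * j ^ 2) := by
      calc (h * j) ^ 2 = h * (j * h) * j := by rw [pow_two]; group
        _ = (h * c') * (h * j * j) := by rw [hjh]; group
        _ = (c' * h) * (h * j * j) := by rw [hc'h.eq]
        _ = c' * (h ^ 2 * j ^ 2) := by rw [pow_two, pow_two]; group
    have h2j : Commute (h ^ 2) (j ^ 2) := by
      have h1 : Commute h (j ^ 2) := by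
        rw [hj, ← pow_mul, mul_comm, pow_mul, pow_two]
        exact (hg2.pow_left _).symm
      exact h1.pow_left 2
    rw [show (4 : ℕ) = 2 * 2 from rfl, pow_mul, hsq,
      ((hc'h.pow_left 2).mul_left (hc'j.pow_left 2)).symm.mul_pow, h2j.mul_pow, pow_two c', hc'2, one_mul,
      ← pow_mul, ← pow_mul]
  have hn1 : (h * j) ^ 2 ^ (k - 1) = 1 := by
    have h4 : 2 ^ (k - 1) = 4 * 2 ^ (k - 3) := by
      rw [show (4 : ℕ) = 2 ^ 2 from rfl, ← pow_add, show 2 + (k - 3) = k - 1 by omega]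
    have h44 : Commute (h ^ 4) (j ^ 4) := by
      have h1 : Commute h (j ^ 4) := by
        rw [hj, ← pow_mul, show 2 ^ (m - k) * 4 = 2 * (2 ^ (m - k) * 2) by ring, pow_mul, pow_two]
        exact (hg2.pow_left _).symm
      exact h1.pow_left 4
    rw [h4, pow_mul, hp, h44.mul_pow, ← pow_mul, ← pow_mul, ← h4, hhc, hjk, hc2]
  have hlt : orderOf (h * j) < orderOf h := by
    refine lt_of_le_of_lt (orderOf_le_of_pow_eq_one (by positivity) hn1) ?_
    rw [hk]; exact Nat.pow_lt_pow_right one_lt_two (by omega)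
  have hgj : Commute g (h * j) := ih _ (by rw [← hn]; omega) g hg _ (mul_mem hh hjP) rfl
  refine hcom ?_
  have hgj' : Commute g j := Commute.self_pow g _
  have := hgj.mul_right hgj'.inv_right
  rwa [mul_inv_cancel_right] at this

/-- A non-abelian Sylow subgroup has an involution inverting a root of a central square. -/
theorem exists_inverting (P : Sylow 2 G) (hP : ¬ IsMulCommutative ↥(P : Subgroup G)) :
    ∃ x z t : G, x ∈ (P : Subgroup G) ∧ Sq x z ∧ Cen P z ∧ t ∈ (P : Subgroup G) ∧ orderOf t = 2 ∧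
      t * x * t⁻¹ = x⁻¹ := by
  by_contra hno
  push Not at hno
  -- so an element inverting a root has the square on top
  have htop : ∀ x z g : G, x ∈ (P : Subgroup G) → Sq x z → Cen P z → g ∈ (P : Subgroup G) → g * x * g⁻¹ = x⁻¹ →
      ∃ k, 2 ≤ k ∧ orderOf g = 2 ^ k ∧ g ^ 2 ^ (k - 1) = z := by
    intro x z g hxP hx hz hg hinv
    have h2 : g * g ≠ 1 := fun e => by
      by_cases hg1 : g = 1
      · rw [hg1, one_mul, inv_one, mul_one] at hinv; exact hx.inv_ne hinv.symm
      · exact hno x z g hxP hx hz hg (orderOf_eq_prime (by rw [pow_two, e]) hg1) hinv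
    obtain ⟨k, hk, hko⟩ := ord_ge P hg h2
    refine ⟨k, hk, hko, ?_⟩
    have ht := top_power hk hko
    have hrx : Commute (g ^ 2 ^ (k - 2)) x := root_commute hti hna P hx hz (pow_mem hg _) ht
    have hix : Commute x (g ^ 2 ^ (k - 1)) := by
      rw [← ht.sq]; exact hrx.symm.mul_right hrx.symm
    have h1 : x * g * x⁻¹ ∈ zpowers g := hti g x 2 k _ Nat.prime_two hko (ne_one_of_two ht.two) hix
    have h2 : x * g * x⁻¹ = g * z := by
      have h3 : g⁻¹ * x * g = x⁻¹ := by
        rw [show g⁻¹ * x * g = (g⁻¹ * (g * x * g⁻¹) * g)⁻¹ by rw [hinv]; group]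
        group
      calc x * g * x⁻¹ = g * ((g⁻¹ * x * g) * x⁻¹) := by group
        _ = g * z := by rw [h3, ← hx.inv.sq]
    rw [h2] at h1
    have hzg : z ∈ zpowers g := by simpa using mul_mem (inv_mem (mem_zpowers g)) h1
    exact top_unique (by omega) hko hx.two hzg
  obtain ⟨x, z, s, hxP, hx, hz, hsP, hs⟩ : ∃ x z s : G, x ∈ (P : Subgroup G) ∧ Sq x z ∧ Cen P z ∧
      s ∈ (P : Subgroup G) ∧ s * x * s⁻¹ = x⁻¹ := by
    by_contra hc
    push Not at hc
    refine hP (abelian_of_central hti hna P fun x z hxP hx hz p hp => ?_)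
    rcases conj_root hti hx (hz p hp) with e | e
    · exact mul_inv_eq_iff_eq_mul.1 e
    · exact absurd e (hc x z p hxP hx hz hp)
  -- the central square is unique
  have hone : ∀ y j : G, y ∈ (P : Subgroup G) → Sq y j → Cen P j → j = z := by
    intro y j hyP hy hj
    by_contra hne
    have hsy : s * y * s⁻¹ = y := by
      rcases conj_root hti hy (hj s hsP) with e | e
      · exact e
      obtain ⟨k, -, hk, h1⟩ := htop x z s hxP hx hz hsP hs
      obtain ⟨k', -, hk', h2⟩ := htop y j s hyP hy hj hsP e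
      rw [hk] at hk'
      rw [← Nat.pow_right_injective le_rfl hk', h1] at h2
      exact absurd h2.symm hne
    have hxy : Commute x y := (root_commute hti hna P hx hz hyP hy).symm
    have hY := hx.mul hy hxy (Ne.symm hne)
    rcases conj_root hti hY (show Commute s (z * j) from (hz s hsP).mul_right (hj s hsP)) with e | e <;>
      rw [← conj_mul, hs, hsy] at e
    · exact hx.inv_ne (mul_right_cancel e)
    · rw [_root_.mul_inv_rev, hxy.symm.inv_inv.eq] at e
      exact hy.inv_ne (mul_left_cancel e).symm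
  -- every square is that one
  have hall : ∀ y j : G, y ∈ (P : Subgroup G) → Sq y j → j = z := by
    intro y j hyP hy
    by_contra hne
    obtain ⟨⟨x', z'⟩, ⟨hx', hs', hcz⟩, hmax⟩ := Set.exists_max_image
      {p : G × G | p.1 ∈ (P : Subgroup G) ∧ Sq p.1 p.2 ∧ ¬ Cen P p.2}
      (fun p => Nat.card ↥((P : Subgroup G) ⊓ centralizer ({p.2} : Set G))) (Set.toFinite _)
      ⟨(y, j), hyP, hy, fun hc => hne (hone y j hyP hy hc)⟩
    dsimp only at hx' hs' hcz
    obtain ⟨u, huP, hne', hcx, hu2, hlt⟩ := step hti P hx' hs' hcz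
    set w := u * x' * u⁻¹ with hw
    have hwP : w ∈ (P : Subgroup G) := mul_mem (mul_mem huP hx') (inv_mem huP)
    have hY := hs'.mul (hs'.conj u) hcx (Ne.symm hne')
    have hcen : Cen P (z' * (u * z' * u⁻¹)) := by
      by_contra hc'
      exact absurd (hmax (x' * w, z' * (u * z' * u⁻¹)) ⟨mul_mem hx' hwP, hY, hc'⟩) (not_le.2 hlt)
    have hzz := hone _ _ (mul_mem hx' hwP) hY hcen
    -- `u` inverts one of the two roots
    have hz2 : Commute u (z' * (u * z' * u⁻¹)) := (hcen u huP)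
    have hu3 : u * w * u⁻¹ = x' := by
      rw [hw, show u * (u * x' * u⁻¹) * u⁻¹ = u * u * x' * (u * u)⁻¹ by group]
      rcases conj_root hti hs' hu2 with e | e
      · exact e
      exfalso
      have h2 : u * w * u⁻¹ = x'⁻¹ := by rw [hw, ← e]; group
      rcases conj_root hti hY hz2 with f | f <;> rw [← conj_mul, ← hw, h2] at f
      · rw [hcx.eq] at f
        exact hs'.inv_ne (mul_left_cancel f)
      · rw [_root_.mul_inv_rev] at f
        exact (hs'.conj u).inv_ne (mul_right_cancel f).symm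
    set v := x' * w⁻¹ with hvdef
    have hv : Sq v z := hzz ▸ hs'.mul (hs'.conj u).inv hcx.inv_right (Ne.symm hne')
    have huv : u * v * u⁻¹ = v⁻¹ := by
      rw [hvdef, ← conj_mul, ← conj_inv, ← hw, hu3]
      group
    obtain ⟨k, hk, hko, hkz⟩ := htop v z u (mul_mem hx' (inv_mem hwP)) hv hz huP huv
    have h1 : x' * u * x'⁻¹ ∈ zpowers u :=
      hti u x' 2 k _ Nat.prime_two hko (by rw [hkz]; exact ne_one_of_two hv.two) (by rw [hkz]; exact hz x' hx')
    have h2 : v ∈ zpowers u := by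
      rw [hvdef, hw, show x' * (u * x' * u⁻¹)⁻¹ = x' * u * x'⁻¹ * u⁻¹ by group]
      exact mul_mem h1 (inv_mem (mem_zpowers u))
    obtain ⟨i, hi⟩ := mem_zpowers_iff.1 h2
    rw [(show Commute u v by rw [← hi]; exact Commute.self_zpow u i).eq, mul_inv_cancel_right] at huv
    exact hv.inv_ne huv.symm
  -- a conjugate of `z` gives a second square
  obtain ⟨g, hne, hc⟩ := exists_conj_commute hna hx.two
  haveI := Fact.mk Nat.prime_two
  set z₁ := g * z * g⁻¹ with hz₁
  set C := centralizer ({z} : Set G)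
  have hPC : (P : Subgroup G) ≤ C := fun p hp => mem_centralizer_singleton_iff.2 (hz p hp).eq
  have hPS : (P.subtype hPC : Subgroup C) = (P : Subgroup G).subgroupOf C := rfl
  have hmove : ∀ y : G, Commute y z → (∃ k, orderOf y = 2 ^ k) →
      ∃ c : G, Commute c z ∧ c * y * c⁻¹ ∈ (P : Subgroup G) := by
    intro y hy ⟨k, hk⟩
    obtain ⟨Q, hQ⟩ := (IsPGroup.of_card (n := k) (by rw [Nat.card_zpowers, Subgroup.orderOf_mk, hk]) :
      IsPGroup 2 (zpowers (⟨y, mem_centralizer_singleton_iff.2 hy.eq⟩ : C))).exists_le_sylow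
    obtain ⟨c, hc⟩ := MulAction.exists_smul_eq C Q (P.subtype hPC)
    have h1 : c * ⟨y, mem_centralizer_singleton_iff.2 hy.eq⟩ * c⁻¹ ∈ (P : Subgroup G).subgroupOf C := by
      rw [← hPS, ← hc]
      exact ⟨_, hQ (mem_zpowers _), rfl⟩
    exact ⟨c, mem_centralizer_singleton_iff.1 c.2, h1⟩
  obtain ⟨c, hcz, hc1⟩ := hmove z₁ hc ⟨1, by rw [hz₁, conj_two g hx.two, pow_one]⟩
  set z₂ := c * z₁ * c⁻¹ with hz₂
  have hne2 : z₂ ≠ z := fun e => hne (by
    rw [hz₂, ← (mul_inv_eq_iff_eq_mul.2 hcz.eq : c * z * c⁻¹ = z)] at e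
    exact mul_left_cancel (mul_right_cancel e))
  have hcx2 : Commute x z₂ := by
    rcases conj_root hti hx (show Commute z₂ z from hz z₂ hc1) with e | e
    · exact (mul_inv_eq_iff_eq_mul.1 e : Commute z₂ x).symm
    · exact (hno x z z₂ hxP hx hz hc1 (conj_two c (conj_two g hx.two)) e).elim
  have hr : Sq (c * (g * x * g⁻¹) * c⁻¹) z₂ := (hx.conj g).conj c
  have hrc : Commute z (c * (g * x * g⁻¹) * c⁻¹) := symm_commute hti hx hr hcx2
  obtain ⟨d, hdz, hd⟩ := hmove _ hrc.symm ⟨2, hr.ord⟩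
  have := hall _ _ hd (hr.conj d)
  rw [← (mul_inv_eq_iff_eq_mul.2 hdz.eq : d * z * d⁻¹ = z)] at this
  exact hne2 (mul_left_cancel (mul_right_cancel this))

end Simple

end Cfsg.Agent.Invol.CycTI
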